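import Cfsg.Agent.UFiveType.End.Pairs
import Cfsg.Agent.S1614

/-!
# The final configuration determines the group
-/

set_option autoImplicit false
set_option linter.style.haveILetI false
set_option linter.unusedSectionVars false
set_option synthInstance.maxSize 1024
set_option maxRecDepth 100000

namespace Cfsg.Lib.UFiveType

open Subgroup Cfsg
open scoped commutatorElement

universe u

variable {G : Type u} [Group G] [Finite G] {φ : Mdl →* G}

namespace Final

variable (h : Final φ)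
include h

/-- The class outside the centraliser of `z`. -/
theorem card_D_outside : {y | IsConj (zU φ) y ∧ y ∉ cU φ}.ncard = 128 := by
  have h1 : {y | IsConj (zU φ) y}.ncard = 165 := (Nat.card_coe_set_eq _).symm.trans h.card_D
  have e : {y | IsConj (zU φ) y ∧ y ∉ cU φ} = {y | IsConj (zU φ) y} \ insert (zU φ) (tOrb φ) := by
    ext y
    refine ⟨fun ⟨hy, hc⟩ => ⟨hy, fun hm => hc ?_⟩, fun ⟨hy, hm⟩ => ⟨hy, fun hc => hm ?_⟩⟩
    · rcases hm with rfl | hm
      · exact mem_cU.2 rfl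
      · exact (h.tOrb_sub hm).1
    · exact (h.class_in_cU hc hy).elim Or.inl Or.inr
  rw [e, Set.ncard_sdiff, h1, Set.ncard_insert_of_notMem fun hm => (h.tOrb_sub hm).2.2 rfl,
    ← Nat.card_coe_set_eq, h.card_tOrb]
  rintro y (rfl | hy)
  · exact IsConj.refl _
  · exact (h.tOrb_sub hy).2.1

theorem qU_free {y : G} (hy : IsConj (zU φ) y) (hc : y ∉ cU φ) {q : G} (hq : q ∈ qU φ)
    (he : q * y = y * q) : q = 1 := by
  by_contra hne
  obtain ⟨m, hm, rfl⟩ := hq
  have hmq : qP m := hm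
  obtain ⟨v, hv2, hvq, hvy⟩ : ∃ v : Mdl, v * v = 1 ∧ qP v ∧ v ≠ 1 ∧ φ v * y = y * φ v := by
    rcases qP_sq m hmq with e | e
    · exact ⟨m, e, hmq, fun e' => hne (by rw [e', map_one]), he⟩
    · refine ⟨sgM 0, sgM_zero_mul_self, (sgM_qP 0).1.2 rfl, (sgM_qP 0).2.2, ?_⟩
      rw [← e, map_mul]
      exact (Commute.mul_left he he).eq
  obtain ⟨hv1, hvc⟩ := hvy
  rcases eq_or_ne v (sgM 0) with rfl | hvz
  · exact hc (mem_cU.2 hvc.symm)
  obtain ⟨c, hcc, hce⟩ : φ v ∈ {w : G | ∃ c ∈ cU φ, c * aU φ * c⁻¹ = w} := by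
    rw [h.aOrb_eq]
    exact ⟨v, hvq, hv2, hv1, hvz, rfl⟩
  have hy' : c⁻¹ * y * c * aU φ = aU φ * (c⁻¹ * y * c) := by
    calc c⁻¹ * y * c * aU φ = c⁻¹ * (y * (c * aU φ * c⁻¹)) * c := by group
      _ = c⁻¹ * (c * aU φ * c⁻¹ * y) * c := by rw [hce, hvc]
      _ = aU φ * (c⁻¹ * y * c) := by group
  obtain ⟨i, hi⟩ := h.five_of_cA hy' (hy.trans (isConj_iff.2 ⟨c⁻¹, by group⟩))
  apply hc
  rw [show y = c * (c⁻¹ * y * c) * c⁻¹ by group, hi]
  exact mul_mem (mul_mem hcc (h.frame.range_le_cU ⟨_, rfl⟩)) (inv_mem hcc)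

theorem qU_transitive {y y' : G} (hy : IsConj (zU φ) y) (hc : y ∉ cU φ) (hy' : IsConj (zU φ) y')
    (hc' : y' ∉ cU φ) : ∃ q ∈ qU φ, q * y * q⁻¹ = y' := by
  have hsub : (fun q => q * y * q⁻¹) '' (qU φ : Set G) ⊆ {y | IsConj (zU φ) y ∧ y ∉ cU φ} := by
    rintro _ ⟨q, hq, rfl⟩
    refine ⟨hy.trans (isConj_iff.2 ⟨q, rfl⟩), fun hm => hc ?_⟩
    rw [show y = q⁻¹ * (q * y * q⁻¹) * q by group]
    exact mul_mem (mul_mem (inv_mem (h.qU_le_cU hq)) hm) (h.qU_le_cU hq)
  have hinj : Set.InjOn (fun q => q * y * q⁻¹) (qU φ : Set G) := by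
    intro q hq r hr e
    have e' : q * y * q⁻¹ = r * y * r⁻¹ := e
    refine (inv_mul_eq_one.1 (h.qU_free hy hc (mul_mem (inv_mem hr) hq) ?_)).symm
    calc r⁻¹ * q * y = r⁻¹ * (q * y * q⁻¹) * q := by group
      _ = r⁻¹ * (r * y * r⁻¹) * q := by rw [e']
      _ = y * (r⁻¹ * q) := by group
  have e := Set.eq_of_subset_of_ncard_le hsub (by
    rw [h.card_D_outside, hinj.ncard_image, ← Nat.card_coe_set_eq]
    show 128 ≤ Nat.card (qU φ)
    rw [qU, h.frame.card_map_eq, card_qM])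
  obtain ⟨q, hq, hqe⟩ := e.ge ⟨hy', hc'⟩
  exact ⟨q, hq, hqe⟩

theorem order_constant {y y' : G} (hy : IsConj (zU φ) y) (hc : y ∉ cU φ) (hy' : IsConj (zU φ) y')
    (hc' : y' ∉ cU φ) : orderOf (zU φ * y') = orderOf (zU φ * y) := by
  obtain ⟨q, hq, rfl⟩ := h.qU_transitive hy hc hy' hc'
  rw [show zU φ * (q * y * q⁻¹) = MulAut.conj q (zU φ * y) by
    rw [map_mul, MulAut.conj_apply, MulAut.conj_apply, fix_iff_comm.2 (mem_cU.1 (h.qU_le_cU hq))],
    MulEquiv.orderOf_eq]

theorem order_prime {y : G} (hy : IsConj (zU φ) y) (hc : y ∉ cU φ) :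
    (orderOf (zU φ * y)).Prime ∧ Odd (orderOf (zU φ * y)) := by
  have hodd : Odd (orderOf (zU φ * y)) :=
    h.odd_of_noncomm (IsConj.refl _) hy fun e => hc (mem_cU.2 e.symm)
  refine ⟨?_, hodd⟩
  set n := orderOf (zU φ * y) with hn
  have hn1 : n ≠ 1 := fun e => hc (mem_cU.2 (by
    rw [hn, orderOf_eq_one_iff] at e
    rw [← inv_eq_of_mul_eq_one_right e, inv_mul_cancel, mul_inv_cancel]))
  have hp : (n.minFac).Prime := Nat.minFac_prime hn1
  obtain ⟨d, hd⟩ := Nat.minFac_dvd n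
  have hdvd : d ∣ n := ⟨n.minFac, by rw [mul_comm]; exact hd⟩
  have hord : orderOf ((zU φ * y) ^ d) = n.minFac := by
    rw [orderOf_pow, ← hn, Nat.gcd_eq_right hdvd]
    have hd0 : 0 < d := Nat.pos_of_ne_zero fun e => by
      rw [e, mul_zero] at hd
      exact (orderOf_pos (zU φ * y)).ne' hd
    exact Nat.div_eq_of_eq_mul_left hd0 hd
  have hpo : Odd n.minFac := hodd.of_dvd_nat (Nat.minFac_dvd n)
  have hy2 := h.two_of_D hy
  have hz2 := h.z_two
  set y' := zU φ * (zU φ * y) ^ d with hy'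
  have hzy' : zU φ * y' = (zU φ * y) ^ d := by rw [hy', ← mul_assoc, mul_self_of_two hz2, one_mul]
  have hy'sq : y' * y' = 1 := by
    have hflip := Cfsg.Lib.InvolCalc.flip_zpow hz2 hy2 (d : ℤ)
    rw [zpow_neg, zpow_natCast] at hflip
    rw [hy', show zU φ * (zU φ * y) ^ d * (zU φ * (zU φ * y) ^ d) =
      zU φ * (zU φ * y) ^ d * zU φ * (zU φ * y) ^ d by group, hflip]
    calc ((zU φ * y) ^ d)⁻¹ * zU φ * zU φ * (zU φ * y) ^ d =
        ((zU φ * y) ^ d)⁻¹ * (zU φ * zU φ) * (zU φ * y) ^ d := by group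
      _ = 1 := by rw [mul_self_of_two hz2, mul_one, inv_mul_cancel]
  have hy'2 : orderOf y' = 2 := orderOf_eq_prime (by rw [pow_two, hy'sq]) fun e => by
    rw [e, mul_one] at hzy'
    rw [← hzy', hz2] at hord
    exact absurd (hord ▸ hpo : Odd 2) (by decide)
  obtain ⟨g, -, hg⟩ := Cfsg.Lib.InvolCalc.conj_of_odd hz2 hy'2 (by rw [hzy', hord]; exact hpo)
  have hc' : y' ∉ cU φ := fun hm => by
    have hcm : Commute (zU φ) y' := (mem_cU.1 hm).symm
    have h2 : orderOf (zU φ * y') ∣ 2 := orderOf_dvd_of_pow_eq_one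
      (by rw [hcm.mul_pow, pow_two, pow_two, mul_self_of_two hz2, hy'sq, one_mul])
    rw [hzy', hord] at h2
    rcases (Nat.dvd_prime Nat.prime_two).1 h2 with e | e
    · exact hp.ne_one e
    · rw [e] at hpo; exact absurd hpo (by decide)
  have := h.order_constant hy hc (isConj_iff.2 ⟨g, hg⟩) hc'
  rw [hzy', hord, ← hn] at this
  exact this ▸ hp

theorem exists_outside : ∃ y g, IsConj (zU φ) y ∧ y ∉ cU φ ∧ (∃ s ∈ cU φ, g * s * g⁻¹ = zU φ * y) := by
  obtain ⟨w, hw, hnc⟩ : {y | y ∈ tOrb φ ∧ ¬ y * sgU φ 1 = sgU φ 1 * y}.Nonempty :=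
    Set.nonempty_of_ncard_ne_zero (by rw [h.card_tOrb_noncomm]; norm_num)
  obtain ⟨g, hg⟩ := isConj_iff.1 (h.five_conj 1).symm
  refine ⟨g * w * g⁻¹, g, (h.tOrb_sub hw).2.1.trans (isConj_iff.2 ⟨g, rfl⟩), fun hm => hnc ?_,
    sgU φ 1 * w, mul_mem h.t_mem_cU (h.tOrb_sub hw).1, by rw [← hg]; group⟩
  have e := mem_cU.1 hm
  rw [← hg] at e
  calc w * sgU φ 1 = g⁻¹ * (g * w * g⁻¹ * (g * sgU φ 1 * g⁻¹)) * g := by group
    _ = g⁻¹ * (g * sgU φ 1 * g⁻¹ * (g * w * g⁻¹)) * g := by rw [e]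
    _ = sgU φ 1 * w := by group

variable [IsSimpleGroup G]

theorem order_three {y : G} (hy : IsConj (zU φ) y) (hc : y ∉ cU φ) : orderOf (zU φ * y) = 3 := by
  obtain ⟨y₀, g, hy₀, hc₀, s, hs, hgs⟩ := h.exists_outside
  rw [h.order_constant hy₀ hc₀ hy hc]
  obtain ⟨hp, hodd⟩ := h.order_prime hy₀ hc₀
  obtain ⟨i, j, hcard⟩ := h.card_cU_two_three
  have hd : orderOf (zU φ * y₀) ∣ 2 ^ i * 3 ^ j := by
    rw [← hcard, ← hgs, ← MulAut.conj_apply, MulEquiv.orderOf_eq]
    exact (Subgroup.orderOf_mk s hs).symm.dvd.trans (orderOf_dvd_natCard (⟨s, hs⟩ : cU φ))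
  rcases (Nat.Prime.dvd_mul hp).1 hd with e | e
  · have := (Nat.prime_dvd_prime_iff_eq hp Nat.prime_two).1 (hp.dvd_of_dvd_pow e)
    rw [this] at hodd
    exact absurd hodd (by decide)
  · exact (Nat.prime_dvd_prime_iff_eq hp Nat.prime_three).1 (hp.dvd_of_dvd_pow e)

theorem three_transpositions : IsThreeTranspositionClass (conjugatesOf (zU φ)) := by
  refine ⟨⟨fun d hd => h.two_of_D hd, fun d hd e he => ?_⟩,
    ⟨zU φ, IsConj.refl _, rfl⟩, ?_⟩
  · have hd : IsConj (zU φ) d := hd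
    have he : IsConj (zU φ) e := he
    by_cases hc : d * e = e * d
    · left
      rw [Commute.mul_pow hc, pow_two, pow_two, mul_self_of_two (h.two_of_D hd),
        mul_self_of_two (h.two_of_D he), one_mul]
    · right
      obtain ⟨g, hg⟩ := isConj_iff.1 hd.symm
      have hne : g * e * g⁻¹ ∉ cU φ := fun hm => hc (by
        have e1 := mem_cU.1 hm
        rw [← hg] at e1
        calc d * e = g⁻¹ * (g * d * g⁻¹ * (g * e * g⁻¹)) * g := by group
          _ = g⁻¹ * (g * e * g⁻¹ * (g * d * g⁻¹)) * g := by rw [e1]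
          _ = e * d := by group)
      have h3 := h.order_three (he.trans (isConj_iff.2 ⟨g, rfl⟩)) hne
      rw [← hg, show g * d * g⁻¹ * (g * e * g⁻¹) = MulAut.conj g (d * e) by simp [mul_assoc],
        MulEquiv.orderOf_eq] at h3
      exact h3 ▸ pow_orderOf_eq_one _
  · have hn : (closure (conjugatesOf (zU φ))).Normal := ⟨fun n hn g => by
      induction hn using closure_induction with
      | mem y hy => exact subset_closure ((hy : IsConj _ _).trans (isConj_iff.2 ⟨g, rfl⟩))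
      | one => simp
      | mul a b _ _ iha ihb => simpa [mul_assoc] using mul_mem iha ihb
      | inv a _ iha => simpa [mul_assoc] using inv_mem iha⟩
    refine (IsSimpleGroup.eq_bot_or_eq_top_of_normal _ hn).resolve_left fun e => ?_
    have h1 : zU φ ∈ closure (conjugatesOf (zU φ)) := subset_closure (IsConj.refl _)
    rw [e, mem_bot] at h1
    have := h.z_two
    rw [h1, orderOf_one] at this
    omega

theorem not_commutative : ¬ ∀ a b : G, a * b = b * a := fun hc =>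
  bR_noncomm (h.injP (by rw [map_mul, map_mul]; exact hc _ _))

end Final

/-- The final configuration occurs only in the unitary group. -/
theorem iso_of_final {G : Type u} [Group G] [Finite G] [IsSimpleGroup G] {φ : Mdl →* G} (h : Final φ)
    {F : Type*} [Field F] [Fintype F] (hF : Fintype.card F = 4) : Nonempty (G ≃* Cfsg.PSU 5 F 2) := by
  have hne := h.not_commutative
  have hnsol : ¬ Group.IsSolvable G := fun hs => hne (IsSimpleGroup.comm_iff_isSolvable.2 hs)
  have hcomm : commutator G = ⊤ :=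
    (IsSimpleGroup.eq_bot_or_eq_top_of_normal (commutator G) inferInstance).resolve_left fun e => hne fun a b => by
      have h1 : ⁅a, b⁆ ∈ commutator G := commutator_mem_commutator (mem_top a) (mem_top b)
      rw [e, mem_bot, commutatorElement_eq_one_iff_mul_comm] at h1
      exact h1
  have hperf : ⁅commutator G, commutator G⁆ = commutator G := by
    rw [hcomm, ← _root_.commutator_def, hcomm]
  have hsol : ∀ N : Subgroup G, N.Normal → Group.IsSolvable ↥N → N = ⊥ := fun N hN hs =>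
    (IsSimpleGroup.eq_bot_or_eq_top_of_normal N hN).resolve_right fun e => by
      subst e
      haveI := hs
      exact hnsol (Group.isSolvable_of_surjective (f := (topEquiv : (⊤ : Subgroup G) ≃* G).toMonoidHom)
        topEquiv.surjective)
  have hs : Group.IsSolvable
      (closure {y : G | y ∈ conjugatesOf (zU φ) ∧ y ≠ zU φ ∧ Commute (zU φ) y}) := by
    haveI := h.cU_solvable
    have hle : closure {y : G | y ∈ conjugatesOf (zU φ) ∧ y ≠ zU φ ∧ Commute (zU φ) y} ≤ cU φ :=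
      (closure_le _).2 fun y hy => mem_cU.2 hy.2.2.eq.symm
    exact Group.isSolvable_of_isSolvable_injective (inclusion_injective hle)
  have h256 : 256 ≤ Nat.card (centralizer (eU φ : Set G)) :=
    le_of_eq_of_le ((h.frame.card_map_eq rM).trans card_rM).symm (card_le_of_le h.frame.rU_le)
  have hG : 256 * 17820 ≤ Nat.card G := h.card_group ▸ Nat.mul_le_mul_right _ h256
  rcases Cfsg.Agent.S1614.result hsol hperf h.three_transpositions (zU φ)
    (IsConj.refl _) hs with ⟨⟨e⟩⟩ | ⟨⟨e⟩⟩ | ⟨F', _, _, hF', e | ⟨⟨e⟩⟩⟩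
  · rw [Nat.card_congr e.toEquiv, Nat.card_perm, Nat.card_fin] at hG
    norm_num [Nat.factorial] at hG
  · rw [Nat.card_congr e.toEquiv, Nat.card_perm, Nat.card_fin] at hG
    norm_num [Nat.factorial] at hG
  · obtain ⟨e⟩ := e
    have hc := Cfsg.Agent.S0280.result (q := 2) (hF'.trans (by norm_num)) 4 (by norm_num)
    simp only [Finset.prod_range_succ, Finset.prod_range_zero] at hc
    norm_num [Nat.even_iff] at hc
    rw [Nat.card_congr e.toEquiv] at hG
    omega
  · obtain ⟨f⟩ := psu_congr (n := 5) (q := 2)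
      (FiniteField.ringEquivOfCardEq (K := F') (K' := F) (hF'.trans hF.symm))
    exact ⟨e.trans f⟩

end Cfsg.Lib.UFiveType
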