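import Cfsg.Agent.UFiveType.End.Local
import Cfsg.Agent.S0144
import Mathlib.GroupTheory.SchurZassenhaus

/-!
# The final configuration: the centraliser of `E` has no element of prime order at least five
-/

set_option autoImplicit false
set_option linter.style.haveILetI false
set_option linter.unusedSectionVars false
set_option synthInstance.maxSize 1024
set_option maxRecDepth 100000

namespace Cfsg.Lib.UFiveType

open Subgroup

universe u

variable {G : Type u} [Group G] [Finite G] {φ : Mdl →* G}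

/-- The intersection of `Q` with the centraliser of `E` in the Sylow subgroup. -/
def xU (φ : Mdl →* G) : Subgroup G := (qM ⊓ rM).map φ

namespace Final

variable (h : Final φ)
include h

theorem xU_le_cE : xU φ ≤ centralizer (eU φ : Set G) :=
  (map_mono inf_le_right).trans h.frame.rU_le

theorem xU_le_qU : xU φ ≤ qU φ := map_mono inf_le_left

theorem mem_xU {x : G} (h1 : x ∈ qU φ) (h2 : x ∈ centralizer (eU φ : Set G)) : x ∈ xU φ := by
  obtain ⟨m, hm, rfl⟩ := h1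
  refine ⟨m, ⟨hm, fun i => h.injP ?_⟩, rfl⟩
  rw [map_mul, map_mul]
  exact (mem_centralizer_iff.1 h2 _ (h.frame.sgU_mem i)).symm

/-- An element of odd order of the centraliser of `E` that moves `x` only by `E` fixes it. -/
theorem fix_of_shift {g x : G} (hg : g ∈ centralizer (eU φ : Set G)) (ho : Odd (orderOf g))
    (hy : x⁻¹ * (g * x * g⁻¹) ∈ eU φ) : g * x = x * g := by
  set y := x⁻¹ * (g * x * g⁻¹) with hye
  have hgy : g * y * g⁻¹ = y := fix_iff_comm.2 (mem_centralizer_iff.1 hg y hy).symm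
  have key : ∀ n : ℕ, g ^ n * x * (g ^ n)⁻¹ = x * y ^ n := by
    intro n
    induction n with
    | zero => simp
    | succ n ih =>
      have hn : g * y ^ n * g⁻¹ = y ^ n := by rw [← conj_pow, hgy]
      calc g ^ (n + 1) * x * (g ^ (n + 1))⁻¹ = g * (g ^ n * x * (g ^ n)⁻¹) * g⁻¹ := by
            rw [pow_succ']; group
        _ = (g * x * g⁻¹) * (g * y ^ n * g⁻¹) := by rw [ih]; group
        _ = x * y ^ (n + 1) := by rw [hn, pow_succ', ← mul_assoc, hye]; group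
  obtain ⟨k, hk⟩ := ho
  have h1 := key (orderOf g)
  rw [pow_orderOf_eq_one, one_mul, inv_one, mul_one, hk, pow_succ, pow_mul, pow_two, h.frame.eU_sq hy,
    one_pow, one_mul] at h1
  have h2 : y = 1 := mul_eq_left.1 h1.symm
  rw [hye, inv_mul_eq_one] at h2
  exact fix_iff_comm.1 h2.symm

/-- An element of odd order of the centraliser of `E` centralising `Q` meet it centralises `Q`. -/
theorem cent_qU_of_xU {g : G} (hg : g ∈ centralizer (eU φ : Set G)) (ho : Odd (orderOf g))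
    (hx : ∀ w ∈ xU φ, g * w = w * g) : g ∈ centralizer (qU φ : Set G) := by
  rw [mem_centralizer_iff]
  intro x hxq
  refine (h.fix_of_shift hg ho ?_).symm
  have hgq : g * x * g⁻¹ ∈ qU φ := (h.qU_conj (h.cE_le_cU hg)).2 hxq
  obtain ⟨m, hm, hme⟩ := mul_mem (inv_mem hxq) hgq
  refine ⟨m, Identify.cent_qr m hm fun i hi => h.injP ?_, hme⟩
  rw [map_mul, map_mul, hme]
  set w := φ (ofN i.val) with hw
  have hwq : qP (ofN i.val) := show i.val % 1024 < 128 by omega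
  have hgw : g * w * g⁻¹ = w := fix_iff_comm.2 (hx w ⟨_, ⟨hwq, hi⟩, rfl⟩)
  have hgz : g * zU φ * g⁻¹ = zU φ := fix_iff_comm.2 (mem_cU.1 (h.cE_le_cU hg))
  obtain ⟨a, ha, rfl⟩ := hxq
  have hfix : g * (φ a * w * (φ a)⁻¹) * g⁻¹ = φ a * w * (φ a)⁻¹ := by
    rcases qP_comm a ha _ hwq with e | e
    · have e' : φ a * w = w * φ a := by rw [hw, ← map_mul, e, map_mul]
      rw [e', mul_inv_cancel_right, hgw]
    · have e' : φ a * w = zU φ * (w * φ a) := by rw [hw, zU, ← map_mul, e, map_mul, map_mul]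
      rw [e', show zU φ * (w * φ a) * (φ a)⁻¹ = zU φ * w by group,
        show g * (zU φ * w) * g⁻¹ = g * zU φ * g⁻¹ * (g * w * g⁻¹) by group, hgw, hgz]
  set b := g * φ a * g⁻¹ with hb
  have h3 : b * w * b⁻¹ = φ a * w * (φ a)⁻¹ := by
    conv_lhs => rw [hb, ← hgw]
    refine Eq.trans ?_ hfix
    group
  calc (φ a)⁻¹ * b * w = (φ a)⁻¹ * (b * w * b⁻¹) * b := by group
    _ = (φ a)⁻¹ * (φ a * w * (φ a)⁻¹) * b := by rw [h3]
    _ = w * ((φ a)⁻¹ * b) := by group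

/-- A subgroup of odd order normalised by the centraliser of `E` and inside it centralises `Q`. -/
theorem odd_cent_qU (M : Subgroup G) (hM : M ≤ centralizer (eU φ : Set G))
    (hn : centralizer (eU φ : Set G) ≤ normalizer (M : Set G)) (ho : ∀ x ∈ M, Odd (orderOf x)) :
    M ≤ centralizer (qU φ : Set G) := by
  intro x hx
  refine h.cent_qU_of_xU (hM hx) (ho x hx) fun w hw => ?_
  set v := x * w * x⁻¹ * w⁻¹ with hv
  have h1 : v ∈ M := by
    rw [show v = x * (w * x⁻¹ * w⁻¹) by rw [hv]; group]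
    exact mul_mem hx ((mem_normalizer_iff.1 (hn (h.xU_le_cE hw)) _).1 (inv_mem hx))
  have h2 : v ∈ xU φ := mul_mem (h.mem_xU ((h.qU_conj (h.cE_le_cU (hM hx))).2 (h.xU_le_qU hw))
    (mul_mem (mul_mem (hM hx) (h.xU_le_cE hw)) (inv_mem (hM hx)))) (inv_mem hw)
  obtain ⟨k, hk⟩ := (h.frame.isPGroup.to_le (map_le_range φ (qM ⊓ rM))) ⟨v, h2⟩
  have hd : orderOf v ∣ 2 ^ k := orderOf_dvd_of_pow_eq_one (congrArg Subtype.val hk)
  obtain ⟨j, -, hj⟩ := (Nat.dvd_prime_pow Nat.prime_two).1 hd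
  have h3 := ho v h1
  rw [hj] at h3
  rcases j with _ | j
  · rw [pow_zero] at hj
    exact mul_inv_eq_iff_eq_mul.1 (mul_inv_eq_one.1 (orderOf_eq_one_iff.1 hj))
  · exact absurd h3 (Nat.not_odd_iff_even.2 ⟨2 ^ j, by rw [pow_succ]; ring⟩)

theorem two_in_cent_qU {y : G} (hy : y ∈ centralizer (qU φ : Set G)) {k : ℕ} (hk : orderOf y = 2 ^ k) :
    y = 1 ∨ y = zU φ := by
  haveI : Fact (Nat.Prime 2) := ⟨Nat.prime_two⟩
  have hyc : y ∈ cU φ := mem_cU.2 (mem_centralizer_iff.1 hy _ ⟨sgM 0, (sgM_qP 0).1.2 rfl, rfl⟩).symm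
  obtain ⟨g, hg, hgy⟩ := h.frame.into_range (V := zpowers y)
    (IsPGroup.of_card (n := k) (by rw [Nat.card_zpowers, hk])) (zpowers_le.2 hyc) h.frame.range_le_cU
  obtain ⟨m, hm⟩ := hgy y (mem_zpowers y)
  have hcen : ∀ i : Fin 7, m * ofN (2 ^ i.val) = ofN (2 ^ i.val) * m := fun i => h.injP (by
    rw [map_mul, map_mul, hm]
    set q := φ (ofN (2 ^ i.val))
    have h1 := mem_centralizer_iff.1 hy _ ((h.qU_conj (inv_mem hg)).2 (mem_map_of_mem φ (qP_bit i) : q ∈ qU φ))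
    calc g * y * g⁻¹ * q = g * (y * (g⁻¹ * q * g⁻¹⁻¹)) * g⁻¹ := by group
      _ = g * (g⁻¹ * q * g⁻¹⁻¹ * y) * g⁻¹ := by rw [h1]
      _ = q * (g * y * g⁻¹) := by group)
  rcases Identify.cent_qM m hcen with rfl | rfl
  · rw [map_one] at hm
    exact Or.inl (conj_eq_one_iff.1 hm.symm)
  · right
    have hgz : g * zU φ * g⁻¹ = zU φ := fix_iff_comm.2 (mem_cU.1 hg)
    exact mul_left_cancel (mul_right_cancel (hm.symm.trans hgz.symm))

theorem cent_qU_le : centralizer (qU φ : Set G) ≤ cU φ := fun _ hx =>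
  mem_cU.2 (mem_centralizer_iff.1 hx _ ⟨sgM 0, (sgM_qP 0).1.2 rfl, rfl⟩).symm

theorem qU_z : zU φ ∈ centralizer (qU φ : Set G) :=
  mem_centralizer_iff.2 fun _ hx => mem_cU.1 (h.qU_le_cU hx)

/-- The elements of odd order of the centraliser of `Q` form a subgroup. -/
theorem exists_odd_core : ∃ W : Subgroup G,
    ∀ x, x ∈ W ↔ x ∈ centralizer (qU φ : Set G) ∧ Odd (orderOf x) := by
  haveI : Fact (Nat.Prime 2) := ⟨Nat.prime_two⟩
  set K := centralizer (qU φ : Set G)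
  set Z : Subgroup K := zpowers ⟨zU φ, h.qU_z⟩
  have hZc : ∀ x : K, x * ⟨zU φ, h.qU_z⟩ = ⟨zU φ, h.qU_z⟩ * x := fun x =>
    Subtype.ext (mem_cU.1 (h.cent_qU_le x.2))
  have : Z.Normal := ⟨fun n hn g => by
    obtain ⟨i, rfl⟩ := hn
    show g * _ * g⁻¹ ∈ Z
    rw [(Commute.zpow_right (hZc g) i).eq, mul_inv_cancel_right]
    exact ⟨i, rfl⟩⟩
  have hcZ : Nat.card Z = 2 := by rw [Nat.card_zpowers, Subgroup.orderOf_mk, h.z_two]
  have hodd : ¬ 2 ∣ Z.index := by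
    intro hd
    have h4 : 2 ^ 2 ∣ Nat.card K := by
      rw [← Z.card_mul_index, hcZ, pow_two]
      exact Nat.mul_dvd_mul_left 2 hd
    obtain ⟨V, hV⟩ := Sylow.exists_subgroup_card_pow_prime 2 h4
    have hsub : (V : Set K).image Subtype.val ⊆ {1, zU φ} := by
      rintro _ ⟨v, hv, rfl⟩
      obtain ⟨k, hk⟩ := (IsPGroup.of_card hV) ⟨v, hv⟩
      have hd' : orderOf (v : G) ∣ 2 ^ k :=
        orderOf_dvd_of_pow_eq_one (congrArg (fun a : V => ((a : K) : G)) hk)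
      obtain ⟨j, -, hj⟩ := (Nat.dvd_prime_pow Nat.prime_two).1 hd'
      exact h.two_in_cent_qU v.2 hj
    have h2 := Set.ncard_le_ncard hsub
    rw [Set.ncard_image_of_injective _ Subtype.val_injective, ← Nat.card_coe_set_eq] at h2
    have h3 : ({1, zU φ} : Set G).ncard ≤ 2 := (Set.ncard_insert_le _ _).trans (by rw [Set.ncard_singleton])
    have h5 : Nat.card V = 4 := by rw [hV]; norm_num
    simp only [SetLike.coe_sort_coe] at h2
    omega
  obtain ⟨W₀, hW₀⟩ := exists_left_complement'_of_coprime (N := Z)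
    (by rw [hcZ]; exact (Nat.Prime.coprime_iff_not_dvd Nat.prime_two).2 hodd)
  have hcW : Nat.card W₀ = Z.index := by
    have h1 := hW₀.card_mul_card
    rw [← Z.card_mul_index, mul_comm] at h1
    exact Nat.eq_of_mul_eq_mul_left Nat.card_pos h1
  have hoW : ∀ w ∈ W₀, Odd (orderOf (w : K)) := fun w hw => by
    rw [← Nat.not_even_iff_odd, even_iff_two_dvd]
    exact fun hd => hodd (hcW ▸ hd.trans ((Subgroup.orderOf_mk w hw).symm.dvd.trans (orderOf_dvd_natCard (⟨w, hw⟩ : W₀))))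
  refine ⟨W₀.map K.subtype, fun x => ⟨?_, fun ⟨hx, ho⟩ => ?_⟩⟩
  · rintro ⟨w, hw, rfl⟩
    exact ⟨w.2, by rw [coe_subtype, Subgroup.orderOf_coe]; exact hoW w hw⟩
  · obtain ⟨⟨⟨w, hw⟩, ⟨ζ, hζ⟩⟩, he⟩ := hW₀.2 ⟨x, hx⟩
    have he : w * ζ = ⟨x, hx⟩ := he
    obtain ⟨i, rfl⟩ := hζ
    have hzi : (⟨zU φ, h.qU_z⟩ : K) ^ i = 1 ∨ (⟨zU φ, h.qU_z⟩ : K) ^ i = ⟨zU φ, h.qU_z⟩ := by
      have hsq : (⟨zU φ, h.qU_z⟩ : K) ^ (2 : ℤ) = 1 :=
        Subtype.ext (by
          show zU φ ^ (2 : ℤ) = 1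
          rw [zpow_two]; exact h.frame.eU_sq (h.frame.sgU_mem 0))
      rcases Int.even_or_odd i with ⟨j, rfl⟩ | ⟨j, rfl⟩
      · left; rw [← two_mul, zpow_mul, hsq, one_zpow]
      · right; rw [zpow_add, zpow_mul, hsq, one_zpow, one_mul, zpow_one]
    rcases hzi with e | e <;> simp only [e] at he
    · rw [mul_one] at he
      exact ⟨w, hw, congrArg Subtype.val he⟩
    · exfalso
      set ζ : K := ⟨zU φ, h.qU_z⟩
      obtain ⟨k, hk⟩ := ho
      have h1 : (w * ζ) ^ orderOf x = 1 := by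
        rw [he]; exact Subtype.ext (pow_orderOf_eq_one x)
      have hζ2 : ζ * ζ = 1 := Subtype.ext (h.frame.eU_sq (h.frame.sgU_mem 0))
      rw [Commute.mul_pow (hZc w)] at h1
      rw [hk, pow_succ ζ, pow_mul ζ, pow_two ζ, hζ2, one_pow, one_mul] at h1
      have h2 : ζ ∈ W₀ := by
        rw [← inv_mul_cancel_left (w ^ (2 * k + 1)) ζ, h1, mul_one]
        exact inv_mem (pow_mem hw _)
      have h3 : ζ ∈ W₀ ⊓ Z := ⟨h2, mem_zpowers _⟩
      rw [disjoint_iff.1 hW₀.disjoint, mem_bot] at h3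
      exact (sgM_qP 0).2.2 (h.injP (by rw [map_one]; exact congrArg Subtype.val h3))

theorem mem_five_mapped {u : G} {H : Subgroup G} (hC : cU φ ≤ H) (hN : normalizer (eU φ : Set G) ≤ H)
    (hu : u ∈ H) (h2 : orderOf u = 2) :
    ∃ g ∈ H, g * zU φ * g⁻¹ = u ∨ g * aU φ * g⁻¹ = u := by
  obtain ⟨g, hg, m, hm2, hm1, hm⟩ := h.invol_into (h.frame.range_le_cU.trans hC) hu h2
  suffices ∃ d ∈ H, d * zU φ * d⁻¹ = φ m ∨ d * aU φ * d⁻¹ = φ m by
    obtain ⟨d, hd, e⟩ := this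
    refine ⟨g⁻¹ * d, mul_mem (inv_mem hg) hd, e.imp (fun e => ?_) fun e => ?_⟩ <;>
    · rw [show u = g⁻¹ * φ m * g by rw [← hm]; group, ← e]
      group
  rcases invol_class m hm2 with e | e | ⟨c, w, rfl⟩
  · exact absurd e hm1
  · exact ⟨1, one_mem _, Or.inl (by rw [e]; simp [zU])⟩
  suffices ∃ d ∈ H, d * zU φ * d⁻¹ = φ (iRep c) ∨ d * aU φ * d⁻¹ = φ (iRep c) by
    obtain ⟨d, hd, e⟩ := this
    refine ⟨φ (conjW w) * d, mul_mem (hC (h.frame.range_le_cU ⟨_, rfl⟩)) hd, e.imp (fun e => ?_) fun e => ?_⟩ <;>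
    · rw [map_mul, map_mul, map_inv, ← e]
      group
  rcases Identify.iRep_cases c with ⟨k, e⟩ | ⟨k, e⟩ | e | e <;> rw [e]
  · obtain ⟨d, hd, hk⟩ := h.aR_conj k
    exact ⟨d, hC hd, Or.inr hk⟩
  · obtain ⟨d, hd, hk⟩ := h.bR_conj k
    exact ⟨d, hC hd, Or.inr hk⟩
  · obtain ⟨σ, hσ, h0⟩ := Identify.perm_point 1
    obtain ⟨d, hd, hs⟩ := h.five_onto σ hσ
    exact ⟨d, hN hd, Or.inl ((hs 0).trans (by rw [h0]; rfl))⟩
  · obtain ⟨σ, hσ, h0⟩ := Identify.perm_pair 0 1 (by decide)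
    obtain ⟨d, hd, hs⟩ := h.five_onto σ hσ
    refine ⟨d, hN hd, Or.inr ?_⟩
    rw [aU, aR_pair.1, map_mul, map_mul,
      show d * (φ (sgM 3) * φ (sgM 4)) * d⁻¹ = d * sgU φ 3 * d⁻¹ * (d * sgU φ 4 * d⁻¹) by rw [sgU, sgU]; group,
      hs 3, hs 4]
    rcases h0 with ⟨e3, e4⟩ | ⟨e3, e4⟩ <;> rw [e3, e4]
    · rfl
    · exact h.frame.eU_comm (h.frame.sgU_mem 1) (h.frame.sgU_mem 0)

variable [IsSimpleGroup G]

theorem odd_core_trivial {x : G} (hx : x ∈ centralizer (qU φ : Set G)) (ho : Odd (orderOf x)) : x = 1 := by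
  obtain ⟨W, hW⟩ := h.exists_odd_core
  set H := normalizer (W : Set G) with hH
  have hC : cU φ ≤ H := fun c hc => Cfsg.Lib.ZStarApps.mem_normalizer_of_maps fun w hw => by
    rw [hW] at hw ⊢
    refine ⟨mem_centralizer_iff.2 fun q hq => ?_, ?_⟩
    · have h1 := mem_centralizer_iff.1 hw.1 _ ((h.qU_conj (inv_mem hc)).2 hq)
      calc q * (c * w * c⁻¹) = c * (c⁻¹ * q * c⁻¹⁻¹ * w) * c⁻¹ := by group
        _ = c * (w * (c⁻¹ * q * c⁻¹⁻¹)) * c⁻¹ := by rw [h1]
        _ = c * w * c⁻¹ * q := by group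
    · rw [← MulAut.conj_apply, MulEquiv.orderOf_eq]; exact hw.2
  have hWE : W ≤ centralizer (eU φ : Set G) := fun w hw => by
    rw [hW] at hw
    have hq : ∀ k, w * φ (aR k) = φ (aR k) * w := fun k =>
      (mem_centralizer_iff.1 hw.1 _ (mem_map_of_mem φ (aR_facts k).1 : φ (aR k) ∈ qU φ)).symm
    have hwN : w ∈ normalizer (eU φ : Set G) := h.cent_aR 0 (mem_centralizer_singleton_iff.2 (hq 0))
    refine (h.perm_one_iff ⟨w, hwN⟩).1 (Identify.perm_rigid _ ?_ ?_ ?_)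
    · exact (h.mem_cU_iff_perm ⟨w, hwN⟩).1 (h.cent_qU_le hw.1)
    · exact (h.fix_pair ⟨w, hwN⟩ (by decide) aR_pair.1).1 (hq 0)
    · exact (h.fix_pair ⟨w, hwN⟩ (by decide) aR_pair.2.1).1 (hq 1)
  have hN : normalizer (eU φ : Set G) ≤ H := fun g hg => by
    set M := W.map (MulAut.conj g).toMonoidHom
    have hconj : ∀ d ∈ normalizer (eU φ : Set G), ∀ y ∈ centralizer (eU φ : Set G),
        d * y * d⁻¹ ∈ centralizer (eU φ : Set G) := fun d hd y hy => by
      rw [mem_centralizer_iff]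
      intro e he
      have h1 := mem_centralizer_iff.1 hy _ ((mem_normalizer_iff.1 (inv_mem hd) e).1 he)
      rw [inv_inv] at h1
      calc e * (d * y * d⁻¹) = d * (d⁻¹ * e * d * y) * d⁻¹ := by group
        _ = d * (y * (d⁻¹ * e * d)) * d⁻¹ := by rw [h1]
        _ = d * y * d⁻¹ * e := by group
    have h1 : M ≤ centralizer (qU φ : Set G) := by
      refine h.odd_cent_qU M ?_ ?_ ?_
      · rintro _ ⟨w, hw, rfl⟩
        exact hconj g hg w (hWE hw)
      · intro d hd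
        refine Cfsg.Lib.ZStarApps.mem_normalizer_of_maps ?_
        rintro _ ⟨w, hw, rfl⟩
        have h2 := hconj g⁻¹ (inv_mem hg) d hd
        rw [inv_inv] at h2
        refine ⟨g⁻¹ * d * g * w * (g⁻¹ * d * g)⁻¹, (mem_normalizer_iff.1 (hC (h.cE_le_cU h2)) w).1 hw, ?_⟩
        show g * (g⁻¹ * d * g * w * (g⁻¹ * d * g)⁻¹) * g⁻¹ = d * (g * w * g⁻¹) * d⁻¹
        group
      · rintro _ ⟨w, hw, rfl⟩
        show Odd (orderOf (MulAut.conj g w))
        rw [MulEquiv.orderOf_eq]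
        exact ((hW w).1 hw).2
    refine Cfsg.Lib.ZStarApps.mem_normalizer_of_maps fun w hw => (hW _).2 ⟨h1 ⟨w, hw, rfl⟩, ?_⟩
    rw [← MulAut.conj_apply, MulEquiv.orderOf_eq]
    exact ((hW w).1 hw).2
  have hcent : ∀ u : G, orderOf u = 2 → u ∈ H → ∀ y, y * u = u * y → y ∈ H := by
    intro u h2 hu y hy
    obtain ⟨g, hg, e⟩ := h.mem_five_mapped hC hN hu h2
    have key : ∀ x : G, g * x * g⁻¹ = u → centralizer ({x} : Set G) ≤ H → y ∈ H := fun x ex hx => by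
      have h1 : g⁻¹ * y * g ∈ H := hx (mem_centralizer_singleton_iff.2 (by
        calc g⁻¹ * y * g * x = g⁻¹ * (y * (g * x * g⁻¹)) * g := by group
          _ = g⁻¹ * (g * x * g⁻¹ * y) * g := by rw [ex, hy]
          _ = x * (g⁻¹ * y * g) := by group))
      simpa [mul_assoc] using mul_mem (mul_mem hg h1) (inv_mem hg)
    rcases e with e | e
    · exact key _ e hC
    · exact key _ e (h.cA_le.trans hN)
  have hB : ∀ y : G, IsConj (aU φ) y → y ∈ H := by
    intro y hy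
    have hy2 := Cfsg.Lib.HallJankoType.order_two_of_conj h.a_two hy
    obtain ⟨hu2, hux, huy⟩ := Cfsg.Lib.InvolCalc.central_spec h.z_two hy2
      (Cfsg.Lib.HallJankoType.even_of_not_conj h.z_two hy2 fun e => h.not_conj (e.trans hy.symm))
    exact hcent _ hu2 (hC (mem_cU.2 hux)) y huy.eq.symm
  have htop : H = ⊤ := by
    set L := closure {y : G | IsConj (aU φ) y}
    have hLn : L.Normal := ⟨fun n hn g => by
      induction hn using closure_induction with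
      | mem y hy => exact subset_closure (hy.trans (isConj_iff.2 ⟨g, rfl⟩))
      | one => simp
      | mul a b _ _ iha ihb => simpa [mul_assoc] using mul_mem iha ihb
      | inv a _ iha => simpa [mul_assoc] using inv_mem iha⟩
    have hLH : L ≤ H := (closure_le _).2 hB
    rcases IsSimpleGroup.eq_bot_or_eq_top_of_normal L hLn with e | e
    · exfalso
      have h1 : aU φ ∈ L := subset_closure (IsConj.refl _)
      rw [e, mem_bot] at h1
      have := h.a_two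
      rw [h1, orderOf_one] at this
      omega
    · exact top_le_iff.1 (e ▸ hLH)
  have hWn : W.Normal := normalizer_eq_top_iff.1 (hH ▸ htop)
  rcases IsSimpleGroup.eq_bot_or_eq_top_of_normal W hWn with e | e
  · exact mem_bot.1 (e ▸ (hW x).2 ⟨hx, ho⟩)
  · exfalso
    have h1 := ((hW (zU φ)).1 (e ▸ mem_top _)).2
    rw [h.z_two] at h1
    exact absurd h1 (by decide)

theorem no_big_prime {p : ℕ} (hp : p.Prime) (hp5 : 5 ≤ p) :
    ¬ p ∣ Nat.card (centralizer (eU φ : Set G)) := by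
  intro hd
  haveI : Fact p.Prime := ⟨hp⟩
  obtain ⟨⟨g, hg⟩, hgp⟩ := exists_prime_orderOf_dvd_card' p hd
  rw [Subgroup.orderOf_mk] at hgp
  have hodd : Odd (orderOf g) := hgp ▸ hp.odd_of_ne_two (by omega)
  have hrep : ∀ i : Fin 4, φ (ofN (8 * i.val)) ∈ xU φ := fun i =>
    ⟨_, ⟨(Identify.qr_reps i).1, (Identify.qr_reps i).2⟩, rfl⟩
  have hfixE : ∀ y ∈ eU φ, g * y = y * g := fun y hy => (mem_centralizer_iff.1 hg y hy).symm
  have hfix : ∀ i : Fin 4, g * φ (ofN (8 * i.val)) = φ (ofN (8 * i.val)) * g := by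
    intro i
    set w := φ (ofN (8 * i.val)) with hw
    have hc : ∀ d : ℕ, ∃ j : Fin 4, (φ (ofN (8 * j.val)))⁻¹ * (g ^ d * w * (g ^ d)⁻¹) ∈ eU φ := fun d => by
      have hgd : g ^ d ∈ centralizer (eU φ : Set G) := pow_mem hg d
      obtain ⟨m, ⟨hm1, hm2⟩, hm⟩ := h.mem_xU ((h.qU_conj (h.cE_le_cU hgd)).2 (h.xU_le_qU (hrep i)))
        (mul_mem (mul_mem hgd (h.xU_le_cE (hrep i))) (inv_mem hgd))
      obtain ⟨j, hj⟩ := Identify.qr_cosets m hm1 hm2
      exact ⟨j, by rw [← hm, ← map_inv, ← map_mul]; exact mem_map_of_mem φ hj⟩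
    choose f hf using hc
    obtain ⟨a, b, hab, he⟩ := Fintype.exists_ne_map_eq_of_card_lt (fun d : Fin 5 => f d.val) (by simp)
    wlog hlt : a.val < b.val generalizing a b
    · exact this b a hab.symm he.symm (by omega)
    obtain ⟨d, hd'⟩ : ∃ d, b.val = a.val + (d + 1) := ⟨b.val - a.val - 1, by omega⟩
    have he : f a.val = f b.val := he
    have h1 := mul_mem (inv_mem (hf a.val)) (hf b.val)
    rw [← he, show ((φ (ofN (8 * (f a.val).val)))⁻¹ * (g ^ a.val * w * (g ^ a.val)⁻¹))⁻¹ *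
      ((φ (ofN (8 * (f a.val).val)))⁻¹ * (g ^ b.val * w * (g ^ b.val)⁻¹)) =
      g ^ a.val * (w⁻¹ * (g ^ (d + 1) * w * (g ^ (d + 1))⁻¹)) * (g ^ a.val)⁻¹ by
        rw [hd', pow_add g a.val (d + 1)]; group] at h1
    have h2 := (mem_normalizer_iff.1 (h.cE_le_norm (pow_mem hg a.val)) _).2 h1
    have hcop : (d + 1).Coprime p := by
      refine (hp.coprime_iff_not_dvd.2 fun hdd => ?_).symm
      have := Nat.le_of_dvd (by omega) hdd
      omega
    have ho' : orderOf (g ^ (d + 1)) = p := by rw [(hgp.symm ▸ hcop.symm : (orderOf g).Coprime (d+1)).orderOf_pow, hgp]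
    have h3 := h.fix_of_shift (pow_mem hg (d + 1)) (ho'.symm ▸ hp.odd_of_ne_two (by omega)) h2
    obtain ⟨k, hk⟩ := exists_pow_eq_self_of_coprime (x := g) (n := d + 1) (hgp.symm ▸ hcop)
    rw [← hk]
    exact (Commute.pow_left h3 k).eq
  have hX : ∀ x ∈ xU φ, g * x = x * g := by
    rintro _ ⟨m, ⟨hm1, hm2⟩, rfl⟩
    obtain ⟨i, hi⟩ := Identify.qr_cosets m hm1 hm2
    set w := ofN (8 * i.val) with hw
    have e1 : g * φ (w⁻¹ * m) = φ (w⁻¹ * m) * g := hfixE _ (mem_map_of_mem φ hi)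
    rw [← mul_inv_cancel_left w m, map_mul]
    exact (Commute.mul_right (hfix i) e1).eq
  have h1 := h.odd_core_trivial (h.cent_qU_of_xU hg hodd hX) hodd
  rw [h1, orderOf_one] at hgp
  omega

theorem cE_two_three : ∃ i j : ℕ, Nat.card (centralizer (eU φ : Set G)) = 2 ^ i * 3 ^ j := by
  have hne : Nat.card (centralizer (eU φ : Set G)) ≠ 0 := Nat.card_pos.ne'
  obtain ⟨i, m, hm, e⟩ := Nat.exists_eq_pow_mul_and_not_dvd hne 2 (by norm_num)
  have hm0 : m ≠ 0 := fun h0 => hm (h0 ▸ dvd_zero 2)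
  refine ⟨i, _, e.trans (congrArg (2 ^ i * ·) (Nat.eq_prime_pow_of_unique_prime_dvd (p := 3) hm0 fun {q} hq hqm => ?_))⟩
  have hle : ¬ 5 ≤ q := fun h5 => h.no_big_prime hq h5 (e ▸ dvd_mul_of_dvd_right hqm _)
  have h2 := hq.two_le
  rcases lt_or_ge q 3 with h3 | h3
  · exact absurd ((show q = 2 by omega) ▸ hqm) hm
  · rcases (show q = 3 ∨ q = 4 by omega) with rfl | rfl
    · rfl
    · exact absurd hq (by norm_num)

theorem card_cU_two_three : ∃ i j : ℕ, Nat.card (cU φ) = 2 ^ i * 3 ^ j := by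
  obtain ⟨i, j, e⟩ := h.cE_two_three
  exact ⟨i + 2, j + 3, by rw [h.card_cU, e]; ring⟩

theorem cU_solvable : Group.IsSolvable (cU φ) := by
  obtain ⟨i, j, e⟩ := h.card_cU_two_three
  exact Cfsg.Agent.S0144.result 2 3 i j Nat.prime_two Nat.prime_three e

end Final

end Cfsg.Lib.UFiveType
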