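import Cfsg.Agent.UFiveType.Facts
import Mathlib.GroupTheory.Perm.Sign

/-!
# Facts on the model and on the five letters used in the identification
-/

set_option autoImplicit false
set_option maxRecDepth 100000
set_option Elab.async false

namespace Cfsg.Lib.UFiveType.Identify

open Equiv

theorem cent_qM : ∀ a : Mdl, (∀ i : Fin 7, a * ofN (2 ^ i.val) = ofN (2 ^ i.val) * a) → a = 1 ∨ a = sgM 0 := by
  rw [forall_mdl]
  decide +kernel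

theorem cent_qr : ∀ a, qP a → (∀ i : Fin 128, rP (ofN i.val) → a * ofN i.val = ofN i.val * a) → eP a := by
  simp only [forall_qP]
  decide +kernel

theorem qr_cosets : ∀ x, qP x → rP x → ∃ i : Fin 4, eP ((ofN (8 * i.val))⁻¹ * x) := by
  simp only [forall_qP]
  decide +kernel

theorem qr_reps : ∀ i : Fin 4, qP (ofN (8 * i.val)) ∧ rP (ofN (8 * i.val)) := by decide +kernel

theorem invol_count :
    (Finset.univ.filter fun c : Fin 128 => ofN c.val * ofN c.val = 1 ∧ ofN c.val ≠ 1 ∧ ofN c.val ≠ sgM 0).card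
      = 54 := by
  decide +kernel

theorem iRep_cases : ∀ c : Fin 8, (∃ k, iRep c = aR k) ∨ (∃ k, iRep c = bR k) ∨ iRep c = sgM 1 ∨
    iRep c = sgM 0 * sgM 1 := by
  decide +kernel

theorem iRep_qP : ∀ c : Fin 8, qP (iRep c) → (∃ k, iRep c = aR k) ∨ (∃ k, iRep c = bR k) := by
  decide +kernel

theorem sgM_one_orbit : ∀ i : Fin 5, i ≠ 0 → i = 1 ∨ ∃ k : Fin 3, v4 k.succ 1 = i := by decide +kernel

theorem v4_move : ∀ k : Fin 4, v4 k 0 = 0 ∧ (v4 k 1 ≠ 1 → v4 k 1 ≠ 0 ∧ v4 k (v4 k 1) = 1) := by decide +kernel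

theorem five_prod : sgM 0 * aR 0 = sgM 1 * sgM 2 ∧ sgM 1 * aR 0 = sgM 0 * sgM 2 ∧
    sgM 2 * aR 0 = sgM 0 * sgM 1 := by
  decide +kernel

/-- The permutation preserves the pair of the last two letters. -/
def pairP (σ : Perm (Fin 5)) : Prop := (σ 3 = 3 ∧ σ 4 = 4) ∨ (σ 3 = 4 ∧ σ 4 = 3)

instance : DecidablePred pairP := fun σ =>
  inferInstanceAs (Decidable ((σ 3 = 3 ∧ σ 4 = 4) ∨ (σ 3 = 4 ∧ σ 4 = 3)))

theorem perm_counts :
    (Finset.univ.filter fun σ : Perm (Fin 5) => Perm.sign σ = 1 ∧ pairP σ).card = 6 ∧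
    (Finset.univ.filter fun σ : Perm (Fin 5) => Perm.sign σ = 1 ∧ σ 0 = 0 ∧ pairP σ).card = 2 ∧
    (Finset.univ.filter fun σ : Perm (Fin 5) => Perm.sign σ = 1 ∧ σ 0 = 0 ∧ σ 1 = 1).card = 3 := by
  decide +kernel

theorem perm_pair : ∀ i j : Fin 5, i ≠ j →
    ∃ σ : Perm (Fin 5), Perm.sign σ = 1 ∧ ((σ 3 = i ∧ σ 4 = j) ∨ (σ 3 = j ∧ σ 4 = i)) := by
  decide +kernel

theorem perm_point : ∀ i : Fin 5, ∃ σ : Perm (Fin 5), Perm.sign σ = 1 ∧ σ 0 = i := by decide +kernel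

theorem perm_cycle : ∀ k : Fin 3,
    ∃ σ : Perm (Fin 5), Perm.sign σ = 1 ∧ σ 0 = k.castLE (by norm_num) ∧ pairP σ := by
  decide +kernel

theorem perm_invol : ∀ σ : Perm (Fin 5), Perm.sign σ = 1 → σ * σ = 1 → σ ≠ 1 → pairP σ →
    (σ 3 = 4 ∧ σ 4 = 3) ∧ (∀ i : Fin 5, σ i ≠ i → i ≠ 3 → i ≠ 4 → σ i ≠ 3 ∧ σ i ≠ 4) ∧
      ∃ k : Fin 3, ∀ i : Fin 3, σ (i.castLE (by norm_num)) = i.castLE (by norm_num) ↔ i = k := by
  decide +kernel

theorem perm_rigid : ∀ σ : Perm (Fin 5), σ 0 = 0 → pairP σ →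
    ((σ 2 = 2 ∧ σ 4 = 4) ∨ (σ 2 = 4 ∧ σ 4 = 2)) → σ = 1 := by
  decide +kernel

theorem five_disjoint : ∀ i : Fin 5, ∀ j : Fin 5, i ≠ j → sgM i * sgM j ≠ sgM 0 ∧
    (sgM i * sgM j = aR 0 → (i = 3 ∧ j = 4) ∨ (i = 4 ∧ j = 3)) := by
  decide +kernel

end Cfsg.Lib.UFiveType.Identify
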