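import Cfsg.Agent.UFiveType.Classes
import Cfsg.Agent.UFiveType.End.Facts
import Cfsg.Agent.LocalThree.HallJankoType.OrderFormula

/-!
# The final configuration: orders of the centralisers in terms of the centraliser of `E`
-/

set_option autoImplicit false
set_option linter.style.haveILetI false
set_option linter.unusedSectionVars false
set_option synthInstance.maxSize 1024
set_option maxRecDepth 100000

namespace Cfsg.Lib.UFiveType

open Subgroup

universe u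

variable {G : Type u} [Group G] [Finite G] {φ : Mdl →* G}

/-- The class of the second of the five in the centraliser of the central involution. -/
def tOrb (φ : Mdl →* G) : Set G := {y | ∃ c ∈ cU φ, c * sgU φ 1 * c⁻¹ = y}

theorem mem_cU {x : G} : x ∈ cU φ ↔ x * zU φ = zU φ * x := mem_centralizer_singleton_iff

theorem fix_iff_comm {x y : G} : x * y * x⁻¹ = y ↔ x * y = y * x := mul_inv_eq_iff_eq_mul

/-- The orbit formula inside a subgroup. -/
theorem orbit_mul_card (K : Subgroup G) {x : G} (hx : x ∈ K) :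
    Nat.card {y : G // ∃ k ∈ K, k * x * k⁻¹ = y} * Nat.card (K ⊓ centralizer ({x} : Set G) : Subgroup G) =
      Nat.card K := by
  rw [← Cfsg.Lib.HallJankoType.card_class_mul (⟨x, hx⟩ : K)]
  refine congrArg₂ (· * ·) (Nat.card_congr ?_).symm (Nat.card_congr ?_).symm
  · refine Equiv.ofBijective (fun y => ⟨(y.1 : G), ?_⟩) ⟨?_, ?_⟩
    · obtain ⟨c, hc⟩ := isConj_iff.1 y.2
      exact ⟨c, c.2, congrArg Subtype.val hc⟩
    · intro y y' e
      exact Subtype.ext (Subtype.ext (Subtype.mk.inj e))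
    · rintro ⟨y, k, hk, rfl⟩
      exact ⟨⟨⟨k, hk⟩ * ⟨x, hx⟩ * ⟨k, hk⟩⁻¹, isConj_iff.2 ⟨⟨k, hk⟩, rfl⟩⟩, rfl⟩
  · exact
    { toFun := fun c => ⟨(c.1 : G), c.1.2, mem_centralizer_singleton_iff.2
        (congrArg Subtype.val (mem_centralizer_singleton_iff.1 c.2))⟩
      invFun := fun c => ⟨⟨c.1, c.2.1⟩, mem_centralizer_singleton_iff.2
        (Subtype.ext (mem_centralizer_singleton_iff.1 c.2.2))⟩
      left_inv := fun _ => rfl
      right_inv := fun _ => rfl }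

namespace Final

variable (h : Final φ)
include h

theorem injP : Function.Injective φ := h.frame.inj

theorem z_two : orderOf (zU φ) = 2 := h.frame.order_two sgM_zero_mul_self (sgM_qP 0).2.2

theorem a_two : orderOf (aU φ) = 2 := h.frame.order_two (eP_sq _ (aR_facts 0).2.1) (aR_facts 0).2.2.1

theorem t_two : orderOf (sgU φ 1) = 2 := h.frame.order_two (eP_sq _ (sgM_eP 1)) (sgM_qP 1).2.2

theorem two_of_D {x : G} (hx : IsConj (zU φ) x) : orderOf x = 2 :=
  Cfsg.Lib.HallJankoType.order_two_of_conj h.z_two hx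

theorem a_mem : aU φ ∈ eU φ := h.frame.aR_mem 0

theorem eU_le_cU : eU φ ≤ cU φ := (map_le_range φ eM).trans h.frame.range_le_cU

theorem qU_le_cU : qU φ ≤ cU φ := (map_le_range φ qM).trans h.frame.range_le_cU

theorem cE_le_cU : centralizer (eU φ : Set G) ≤ cU φ := fun _ hx =>
  mem_cU.2 (mem_centralizer_iff.1 hx _ (h.frame.sgU_mem 0)).symm

theorem cE_le_norm : centralizer (eU φ : Set G) ≤ normalizer (eU φ : Set G) := fun x hx =>
  Cfsg.Lib.ZStarApps.mem_normalizer_of_maps fun y hy => by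
    rwa [← mem_centralizer_iff.1 hx y hy, mul_inv_cancel_right]

theorem mem_cE_iff {x : G} : x ∈ centralizer (eU φ : Set G) ↔ ∀ i, x * sgU φ i * x⁻¹ = sgU φ i := by
  refine ⟨fun hx i => fix_iff_comm.2 (mem_centralizer_iff.1 hx _ (h.frame.sgU_mem i)).symm, fun hx => ?_⟩
  have hc : ∀ i, Commute x (sgU φ i) := fun i => fix_iff_comm.1 (hx i)
  rw [mem_centralizer_iff]
  rintro _ ⟨m, hm, rfl⟩
  rcases eP_cases m hm with rfl | ⟨i, rfl⟩ | ⟨i, j, -, rfl⟩
  · simp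
  · exact (hc i).eq.symm
  · rw [map_mul]
    exact ((hc i).mul_right (hc j)).eq.symm

theorem perm_one_iff (n : normalizer (eU φ : Set G)) :
    h.frame.permHom n = 1 ↔ (n : G) ∈ centralizer (eU φ : Set G) := by
  rw [h.mem_cE_iff]
  refine ⟨fun e i => ?_, fun e => Equiv.ext fun i => sgU_inj h.frame ?_⟩
  · rw [h.frame.perm_spec n i]
    exact congrArg (sgU φ) (by rw [show h.frame.perm n = 1 from e]; rfl)
  · rw [Equiv.Perm.one_apply, ← e i]
    exact (h.frame.perm_spec n i).symm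

theorem perm_even (n : normalizer (eU φ : Set G)) : Equiv.Perm.sign (h.frame.permHom n) = 1 := by
  obtain ⟨σ, hσ, hs⟩ := h.five_act n n.2
  rwa [show h.frame.permHom n = σ from
    Equiv.ext fun i => sgU_inj h.frame ((h.frame.perm_spec n i).symm.trans (hs i))]

theorem fix_point (n : normalizer (eU φ : Set G)) (i : Fin 5) :
    (n : G) * sgU φ i = sgU φ i * n ↔ h.frame.permHom n i = i := by
  rw [← fix_iff_comm, h.frame.perm_spec n i]
  exact ⟨fun e => sgU_inj h.frame e, fun e => congrArg (sgU φ) e⟩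

theorem mem_cU_iff_perm (n : normalizer (eU φ : Set G)) : (n : G) ∈ cU φ ↔ h.frame.permHom n 0 = 0 :=
  mem_cU.trans (h.fix_point n 0)

theorem perm_aR (n : normalizer (eU φ : Set G)) (m : Mdl) (i j : Fin 5) (hm : m = sgM i * sgM j) :
    (n : G) * φ m * (n : G)⁻¹ = φ (sgM (h.frame.permHom n i) * sgM (h.frame.permHom n j)) := by
  have e1 : (n : G) * φ (sgM i) * (n : G)⁻¹ = φ (sgM (h.frame.permHom n i)) := h.frame.perm_spec n i
  have e2 : (n : G) * φ (sgM j) * (n : G)⁻¹ = φ (sgM (h.frame.permHom n j)) := h.frame.perm_spec n j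
  rw [map_mul, ← e1, ← e2, hm, map_mul]
  group

theorem fix_pair (n : normalizer (eU φ : Set G)) {k : Fin 3} {i j : Fin 5} (hij : i ≠ j)
    (hm : aR k = sgM i * sgM j) : (n : G) * φ (aR k) = φ (aR k) * n ↔
      (h.frame.permHom n i = i ∧ h.frame.permHom n j = j) ∨ (h.frame.permHom n i = j ∧ h.frame.permHom n j = i) := by
  rw [← fix_iff_comm, h.perm_aR n _ i j hm]
  refine ⟨fun e => sgM_pair_eq i j _ _ hij (hm.symm.trans (h.injP e).symm)
      fun e' => hij ((h.frame.permHom n).injective e'), fun e => congrArg φ ?_⟩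
  rcases e with ⟨e1, e2⟩ | ⟨e1, e2⟩
  · rw [e1, e2, hm]
  · rw [e1, e2, hm]
    exact eP_comm _ (sgM_eP j) _ (sgM_eP i)

theorem mem_cA_iff_perm (n : normalizer (eU φ : Set G)) :
    (n : G) ∈ centralizer ({aU φ} : Set G) ↔ Identify.pairP (h.frame.permHom n) :=
  mem_centralizer_singleton_iff.trans (h.fix_pair n (by decide) aR_pair.1)

theorem cA_le : centralizer ({aU φ} : Set G) ≤ normalizer (eU φ : Set G) := h.cent_aR 0

/-- A subgroup of the normaliser cut out by a condition on the permutation. -/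
theorem card_of_perm (H : Subgroup G) (hH : H ≤ normalizer (eU φ : Set G)) (P : Equiv.Perm (Fin 5) → Prop)
    [DecidablePred P] (hP1 : P 1) (hP : ∀ n : normalizer (eU φ : Set G), (n : G) ∈ H ↔ P (h.frame.permHom n)) :
    Nat.card H = Nat.card (centralizer (eU φ : Set G)) *
      (Finset.univ.filter fun σ : Equiv.Perm (Fin 5) => Equiv.Perm.sign σ = 1 ∧ P σ).card := by
  set f := h.frame.permHom.comp (inclusion hH)
  have hk : Nat.card f.ker = Nat.card (centralizer (eU φ : Set G)) := Nat.card_congr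
    { toFun := fun x => ⟨(x.1 : G), (h.perm_one_iff (inclusion hH x.1)).1 x.2⟩
      invFun := fun x => ⟨⟨x.1, (hP ⟨x.1, h.cE_le_norm x.2⟩).2 (by rwa [(h.perm_one_iff _).2 x.2])⟩,
        (h.perm_one_iff _).2 x.2⟩
      left_inv := fun _ => rfl
      right_inv := fun _ => rfl }
  have hr : (f.range : Set (Equiv.Perm (Fin 5))) =
      ↑(Finset.univ.filter fun σ : Equiv.Perm (Fin 5) => Equiv.Perm.sign σ = 1 ∧ P σ) := by
    ext σ
    simp only [SetLike.mem_coe, Finset.coe_filter, Finset.mem_univ, true_and, Set.mem_ofPred_eq]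
    constructor
    · rintro ⟨x, rfl⟩
      exact ⟨h.perm_even _, (hP _).1 x.2⟩
    · rintro ⟨hs, hp⟩
      obtain ⟨g, hg, hgs⟩ := h.five_onto σ hs
      have e : h.frame.permHom ⟨g, hg⟩ = σ :=
        Equiv.ext fun i => sgU_inj h.frame ((h.frame.perm_spec ⟨g, hg⟩ i).symm.trans (hgs i))
      exact ⟨⟨g, (hP ⟨g, hg⟩).2 (e.symm ▸ hp)⟩, e⟩
  rw [← f.ker.card_mul_index, index_ker, hk]
  show _ * Nat.card ↥(f.range : Set (Equiv.Perm (Fin 5))) = _
  rw [hr, Nat.card_coe_set_eq, Set.ncard_coe_finset]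

theorem card_cA : Nat.card (centralizer ({aU φ} : Set G)) = Nat.card (centralizer (eU φ : Set G)) * 6 := by
  rw [h.card_of_perm _ h.cA_le Identify.pairP (by decide) h.mem_cA_iff_perm, Identify.perm_counts.1]

theorem card_cU_cA : Nat.card (cU φ ⊓ centralizer ({aU φ} : Set G) : Subgroup G) =
    Nat.card (centralizer (eU φ : Set G)) * 2 := by
  rw [h.card_of_perm _ (inf_le_right.trans h.cA_le) (fun σ => σ 0 = 0 ∧ Identify.pairP σ) (by decide)
    fun n => by rw [mem_inf, h.mem_cU_iff_perm n, h.mem_cA_iff_perm n], Identify.perm_counts.2.1]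

theorem card_cU_cT : Nat.card (cU φ ⊓ centralizer ({sgU φ 1} : Set G) : Subgroup G) =
    Nat.card (centralizer (eU φ : Set G)) * 3 := by
  rw [h.card_of_perm _ h.cent_five (fun σ => σ 0 = 0 ∧ σ 1 = 1) (by decide)
    fun n => by rw [mem_inf, h.mem_cU_iff_perm n, mem_centralizer_singleton_iff, h.fix_point n 1],
    Identify.perm_counts.2.2]

theorem five_of_norm {y : G} (hy : y ∈ normalizer (eU φ : Set G)) (hc : IsConj (zU φ) y) :
    ∃ i, y = sgU φ i := by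
  haveI : Fact (Nat.Prime 2) := ⟨Nat.prime_two⟩
  obtain ⟨g, hg, hgy⟩ := h.frame.into_range (V := zpowers y)
    (IsPGroup.of_card (n := 1) (by rw [Nat.card_zpowers, h.two_of_D hc, pow_one]))
    (zpowers_le.2 hy) h.frame.range_le_norm
  obtain ⟨m, hm⟩ := hgy y (mem_zpowers y)
  obtain ⟨i, rfl⟩ := h.five_only m (hc.trans (isConj_iff.2 ⟨g, hm.symm⟩))
  obtain ⟨j, hj⟩ := h.frame.conj_five (inv_mem hg) i
  exact ⟨j, by rw [← hj, sgU, hm]; group⟩

theorem five_of_cA {y : G} (hy : y * aU φ = aU φ * y) (hc : IsConj (zU φ) y) : ∃ i, y = sgU φ i :=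
  h.five_of_norm (h.cA_le (mem_centralizer_singleton_iff.2 hy)) hc

theorem five_comm {x y : G} (hx : ∃ i, x = sgU φ i) (hy : ∃ i, y = sgU φ i) : x * y = y * x := by
  obtain ⟨i, rfl⟩ := hx
  obtain ⟨j, rfl⟩ := hy
  exact h.frame.eU_comm (h.frame.sgU_mem i) (h.frame.sgU_mem j)

/-- An element of order two of a subgroup over the Sylow subgroup moves into the Sylow subgroup. -/
theorem invol_into {H : Subgroup G} (hH : φ.range ≤ H) {y : G} (hy : y ∈ H) (h2 : orderOf y = 2) :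
    ∃ g ∈ H, ∃ m : Mdl, m * m = 1 ∧ m ≠ 1 ∧ g * y * g⁻¹ = φ m := by
  haveI : Fact (Nat.Prime 2) := ⟨Nat.prime_two⟩
  obtain ⟨g, hg, hgy⟩ := h.frame.into_range (V := zpowers y)
    (IsPGroup.of_card (n := 1) (by rw [Nat.card_zpowers, h2, pow_one])) (zpowers_le.2 hy) hH
  obtain ⟨m, hm⟩ := hgy y (mem_zpowers y)
  have hy2 : y * y = 1 := by rw [← pow_two, ← h2, pow_orderOf_eq_one]
  refine ⟨g, hg, m, h.injP ?_, fun e => ?_, hm.symm⟩
  · rw [map_mul, map_one, hm, show g * y * g⁻¹ * (g * y * g⁻¹) = g * (y * y) * g⁻¹ by group, hy2, mul_one,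
      mul_inv_cancel]
  · rw [e, map_one] at hm
    rw [conj_eq_one_iff.1 hm.symm, orderOf_one] at h2
    omega

theorem qU_conj {c x : G} (hc : c ∈ cU φ) : c * x * c⁻¹ ∈ qU φ ↔ x ∈ qU φ :=
  ((mem_normalizer_iff.1 (h.q_normal hc)) x).symm

theorem t_mem_cU : sgU φ 1 ∈ cU φ := h.frame.range_le_cU ⟨_, rfl⟩

theorem a_mem_cU : aU φ ∈ cU φ := h.frame.range_le_cU ⟨_, rfl⟩

/-- The class of `a` in the centraliser of the central involution. -/
theorem aOrb_eq : {y : G | ∃ c ∈ cU φ, c * aU φ * c⁻¹ = y} =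
    {y : G | ∃ m, qP m ∧ m * m = 1 ∧ m ≠ 1 ∧ m ≠ sgM 0 ∧ φ m = y} := by
  ext y
  constructor
  · rintro ⟨c, hc, rfl⟩
    obtain ⟨m, hm, e⟩ := (h.qU_conj hc).2 (mem_map_of_mem φ (aR_facts 0).1 : aU φ ∈ qU φ)
    refine ⟨m, hm, h.injP ?_, fun e' => ?_, fun e' => h.not_conj ?_, e⟩
    · rw [map_mul, map_one, e, show c * φ (aR 0) * c⁻¹ * (c * φ (aR 0) * c⁻¹) = c * (φ (aR 0) * φ (aR 0)) * c⁻¹ by
        group, (h.frame.eU_sq h.a_mem : φ (aR 0) * φ (aR 0) = 1), mul_one, mul_inv_cancel]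
    · rw [e', map_one] at e
      exact (aR_facts 0).2.2.1 (h.injP (by rw [map_one]; exact conj_eq_one_iff.1 e.symm))
    · rw [e'] at e
      exact (isConj_iff.2 ⟨c, e.symm⟩ : IsConj (aU φ) (zU φ)).symm
  · rintro ⟨m, hq, h2, h1, hz, rfl⟩
    rcases invol_class m h2 with e | e | ⟨i, w, rfl⟩
    · exact absurd e h1
    · exact absurd e hz
    have hw : φ (conjW w) ∈ cU φ := h.frame.range_le_cU ⟨_, rfl⟩
    rcases Identify.iRep_qP i ((qP_conj_iff _).1 hq) with ⟨k, e⟩ | ⟨k, e⟩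
    · obtain ⟨c, hc, hk⟩ := h.aR_conj k
      exact ⟨φ (conjW w) * c, mul_mem hw hc, by rw [map_mul, map_mul, map_inv, e, ← hk]; group⟩
    · obtain ⟨c, hc, hk⟩ := h.bR_conj k
      exact ⟨φ (conjW w) * c, mul_mem hw hc, by rw [map_mul, map_mul, map_inv, e, ← hk]; group⟩

theorem card_cU : Nat.card (cU φ) = Nat.card (centralizer (eU φ : Set G)) * 108 := by
  have h54 : Nat.card {y : G // ∃ c ∈ cU φ, c * aU φ * c⁻¹ = y} = 54 := by
    rw [← Identify.invol_count]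
    show Nat.card ↥{y : G | ∃ c ∈ cU φ, c * aU φ * c⁻¹ = y} = _
    rw [Nat.card_coe_set_eq, h.aOrb_eq, ← Set.ncard_coe_finset]
    rw [← Set.ncard_image_of_injective _ (f := fun c : Fin 128 => φ (ofN c.val)) fun c d e => Fin.ext (by
      have := congrArg (fun a : Mdl => a.code.val) (h.injP e)
      simp only [ofN] at this
      omega)]
    congr 1
    ext y
    simp only [Set.mem_ofPred_eq, Set.mem_image, Finset.coe_filter, Finset.mem_univ, true_and]
    constructor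
    · rintro ⟨m, hq, r2, r1, rz, rfl⟩
      have e : ofN m.code.val = m := congrArg Mdl.mk (Fin.ext (Nat.mod_eq_of_lt m.code.isLt))
      exact ⟨⟨m.code.val, hq⟩, ⟨by rw [e]; exact r2, by rw [e]; exact r1, by rw [e]; exact rz⟩,
        by rw [e]⟩
    · rintro ⟨c, hc, rfl⟩
      exact ⟨ofN c.val, (show c.val % 1024 < 128 by omega : qP (ofN c.val)), hc.1, hc.2.1, hc.2.2, rfl⟩
  have := orbit_mul_card (cU φ) h.a_mem_cU
  rw [h54, h.card_cU_cA] at this
  linarith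

theorem card_tOrb : Nat.card (tOrb φ) = 36 := by
  have := orbit_mul_card (cU φ) h.t_mem_cU
  rw [h.card_cU_cT, h.card_cU] at this
  have hpos : 0 < Nat.card (centralizer (eU φ : Set G)) := Nat.card_pos
  show Nat.card {y : G // ∃ c ∈ cU φ, c * sgU φ 1 * c⁻¹ = y} = 36
  refine Nat.eq_of_mul_eq_mul_right (Nat.mul_pos hpos (by norm_num : 0 < 3)) (this.trans ?_)
  ring

theorem tOrb_conj {c y : G} (hc : c ∈ cU φ) (hy : y ∈ tOrb φ) : c * y * c⁻¹ ∈ tOrb φ := by
  obtain ⟨d, hd, rfl⟩ := hy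
  exact ⟨c * d, mul_mem hc hd, by group⟩

theorem tOrb_sub {y : G} (hy : y ∈ tOrb φ) : y ∈ cU φ ∧ IsConj (zU φ) y ∧ y ≠ zU φ := by
  obtain ⟨c, hc, rfl⟩ := hy
  refine ⟨mul_mem (mul_mem hc h.t_mem_cU) (inv_mem hc), (h.five_conj 1).trans (isConj_iff.2 ⟨c, rfl⟩), ?_⟩
  intro e
  have hcz : c * zU φ * c⁻¹ = zU φ := fix_iff_comm.2 (mem_cU.1 hc)
  exact absurd (sgU_inj h.frame (mul_left_cancel (mul_right_cancel (e.trans hcz.symm)) : sgU φ 1 = sgU φ 0))
    (by decide)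

theorem sgU_tOrb {i : Fin 5} (hi : i ≠ 0) : sgU φ i ∈ tOrb φ := by
  rcases Identify.sgM_one_orbit i hi with rfl | ⟨k, rfl⟩
  · exact ⟨1, one_mem _, by group⟩
  · exact ⟨φ (bR k), h.frame.range_le_cU ⟨_, rfl⟩, by rw [sgU, sgU, ← conj_bR_sgM k 1]; simp⟩

theorem class_in_cU {y : G} (hy : y ∈ cU φ) (hc : IsConj (zU φ) y) : y = zU φ ∨ y ∈ tOrb φ := by
  obtain ⟨g, hg, m, -, -, hm⟩ := h.invol_into h.frame.range_le_cU hy (h.two_of_D hc)
  obtain ⟨i, rfl⟩ := h.five_only m (hc.trans (isConj_iff.2 ⟨g, hm⟩))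
  have hy' : y = g⁻¹ * sgU φ i * g⁻¹⁻¹ := by rw [sgU, ← hm]; group
  rcases eq_or_ne i 0 with rfl | hi
  · left
    rw [hy']
    exact fix_iff_comm.2 (mem_cU.1 (inv_mem hg))
  · exact Or.inr (hy' ▸ h.tOrb_conj (inv_mem hg) (h.sgU_tOrb hi))

theorem tOrb_comm_iff {y : G} (hy : y ∈ tOrb φ) :
    y * sgU φ 1 = sgU φ 1 * y ↔ ∃ i : Fin 5, i ≠ 0 ∧ y = sgU φ i := by
  obtain ⟨hyc, hyD, hyz⟩ := h.tOrb_sub hy
  refine ⟨fun e => ?_, ?_⟩
  · obtain ⟨i, rfl⟩ := h.five_of_norm (h.cent_five ⟨hyc, mem_centralizer_singleton_iff.2 e⟩) hyD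
    exact ⟨i, fun e0 => hyz (by rw [e0]; rfl), rfl⟩
  · rintro ⟨i, -, rfl⟩
    exact h.five_comm ⟨i, rfl⟩ ⟨1, rfl⟩

theorem card_tOrb_noncomm : Set.ncard {y | y ∈ tOrb φ ∧ ¬ y * sgU φ 1 = sgU φ 1 * y} = 32 := by
  have e : {y | y ∈ tOrb φ ∧ ¬ y * sgU φ 1 = sgU φ 1 * y} = tOrb φ \ sgU φ '' {i | i ≠ 0} := by
    ext y
    refine ⟨fun ⟨h1, h2⟩ => ⟨h1, fun ⟨i, hi, e⟩ => h2 ((h.tOrb_comm_iff h1).2 ⟨i, hi, e.symm⟩)⟩,
      fun ⟨h1, h2⟩ => ⟨h1, fun e => ?_⟩⟩
    obtain ⟨i, hi, e'⟩ := (h.tOrb_comm_iff h1).1 e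
    exact h2 ⟨i, hi, e'.symm⟩
  have h4 : ({i : Fin 5 | i ≠ 0} : Set (Fin 5)).ncard = 4 := by
    rw [Set.ncard_eq_toFinset_card']
    decide +kernel
  rw [e, Set.ncard_sdiff (by rintro _ ⟨i, hi, rfl⟩; exact h.sgU_tOrb hi),
    Set.ncard_image_of_injective _ (sgU_inj h.frame), h4, ← Nat.card_coe_set_eq, h.card_tOrb]

end Final

end Cfsg.Lib.UFiveType
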