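import Cfsg.Agent.UFiveType.End.Core

/-!
# The final configuration: the order of the group by Thompson's formula
-/

set_option autoImplicit false
set_option linter.style.haveILetI false
set_option linter.unusedSectionVars false
set_option synthInstance.maxSize 1024
set_option maxRecDepth 100000

namespace Cfsg.Lib.UFiveType

open Subgroup Cfsg.Lib.HallJankoType

universe u

variable {G : Type u} [Group G] [Finite G] {φ : Mdl →* G}

theorem mul_self_of_two {x : G} (hx : orderOf x = 2) : x * x = 1 := by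
  rw [← pow_two, ← hx, pow_orderOf_eq_one]

theorem inv_self_of_two {x : G} (hx : orderOf x = 2) : x⁻¹ = x :=
  inv_eq_of_mul_eq_one_right (mul_self_of_two hx)

theorem pairInvol_comm {x y : G} (hx : orderOf x = 2) (hy : orderOf y = 2) (hc : x * y = y * x) (hne : x ≠ y) :
    pairInvol x y = x * y := by
  have h2 : orderOf (x * y) = 2 := orderOf_eq_prime
    (by rw [Commute.mul_pow hc, pow_two, pow_two, mul_self_of_two hx, mul_self_of_two hy, one_mul])
    fun e => hne (by rw [← inv_eq_of_mul_eq_one_left e, inv_self_of_two hy])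
  rw [pairInvol, h2]
  exact pow_one _

theorem pairInvol_four {x y w : G} (hw : orderOf w = 2) (hsq : x * y * (x * y) = w) : pairInvol x y = w := by
  haveI : Fact (Nat.Prime 2) := ⟨Nat.prime_two⟩
  have h4 : orderOf (x * y) = 2 ^ (1 + 1) := orderOf_eq_prime_pow
    (by rw [pow_one, pow_two, hsq]; exact fun e => by rw [e, orderOf_one] at hw; omega)
    (by rw [pow_add, pow_one, pow_mul, pow_two (x * y), hsq, pow_two, mul_self_of_two hw])
  rw [pairInvol, h4, show (2 : ℕ) ^ (1 + 1) / 2 = 2 from rfl, pow_two, hsq]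

/-- The involutions of the centraliser of `a` outside `E`. -/
def outA (φ : Mdl →* G) : Set G := {y | y * aU φ = aU φ * y ∧ orderOf y = 2 ∧ y ∉ eU φ}

theorem five_products : sgM 3 * aR 0 = sgM 4 ∧ sgM 4 * aR 0 = sgM 3 := by decide +kernel

theorem small_pairs : ∀ i : Fin 5, i.val < 3 → ∃ j k : Fin 5, j ≠ k ∧ sgM i * aR 0 = sgM j * sgM k := by
  decide +kernel

namespace Final

variable (h : Final φ)
include h

theorem conj_a_of_not {y : G} (hy : orderOf y = 2) (hn : ¬ IsConj (zU φ) y) : IsConj (aU φ) y :=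
  (h.classes y hy).resolve_left hn

theorem pair_not_five_of_ne {i j : Fin 5} (hij : i ≠ j) : ¬ IsConj (zU φ) (φ (sgM i * sgM j)) := fun hc => by
  obtain ⟨l, hl⟩ := h.five_only _ hc
  exact (sgM_pair_ne i j l hij).1 hl

/-- A point of the class in the centraliser of `z` times `z` is not conjugate to `z`. -/
theorem tOrb_mul_z {x : G} (hx : x ∈ tOrb φ) : ¬ IsConj (zU φ) (x * zU φ) := by
  obtain ⟨c, hc, rfl⟩ := hx
  have hz : c * zU φ * c⁻¹ = zU φ := fix_iff_comm.2 (mem_cU.1 hc)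
  intro hcj
  refine h.pair_not_five_of_ne (show (1 : Fin 5) ≠ 0 by decide) (hcj.trans (isConj_iff.2 ⟨c⁻¹, ?_⟩))
  conv_lhs => rw [← hz]
  rw [map_mul, sgU, zU]
  group

theorem odd_of_noncomm {x y : G} (hx : IsConj (zU φ) x) (hy : IsConj (zU φ) y) (hne : ¬ x * y = y * x) :
    Odd (orderOf (x * y)) := by
  rw [← Nat.not_even_iff_odd]
  intro he
  have hx2 := h.two_of_D hx
  have hy2 := h.two_of_D hy
  obtain ⟨hu2, hux, huy⟩ := Cfsg.Lib.InvolCalc.central_spec hx2 hy2 he
  set n := orderOf (x * y)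
  set u := (x * y) ^ (n / 2) with hu
  have hxu : IsConj (zU φ) (x * u) := by
    by_cases h4 : 4 ∣ n
    · obtain ⟨d, -, hd⟩ := (Cfsg.Lib.InvolCalc.conj_mul_central_iff hx2 hy2 he).2 h4
      exact hx.trans (isConj_iff.2 ⟨d, hd⟩)
    · have hne' : x ≠ u := fun e => hne (e ▸ huy.eq)
      have hxu2 : orderOf (x * u) = 2 := orderOf_eq_prime
        (by rw [hux.symm.mul_pow, pow_two, pow_two, mul_self_of_two hx2, mul_self_of_two hu2, one_mul])
        fun e => hne' (by rw [← inv_eq_of_mul_eq_one_left e, inv_self_of_two hu2])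
      have hodd : Odd (n / 2) := by
        rw [Nat.odd_iff]
        rcases he with ⟨k, hk⟩
        omega
      have hpr : x * u * y = (x * y) ^ (n / 2 + 1) := by rw [mul_assoc, huy.eq, ← mul_assoc, hu, ← pow_succ']
      have ho : Odd (orderOf (x * u * y)) := by
        refine hodd.of_dvd_nat (orderOf_dvd_of_pow_eq_one ?_)
        rw [hpr, ← pow_mul]
        refine orderOf_dvd_iff_pow_eq_one.1 ?_
        obtain ⟨k, hk⟩ := hodd
        obtain ⟨j, hj⟩ := he
        exact ⟨k + 1, by rw [hk, show orderOf (x * y) = 2 * (2 * k + 1) by omega]; ring⟩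
      obtain ⟨d, -, hd⟩ := Cfsg.Lib.InvolCalc.conj_of_odd hxu2 hy2 ho
      exact hy.trans (isConj_iff.2 ⟨d, hd⟩).symm
  rcases h.classes u hu2 with hc | hc
  · obtain ⟨g, hg⟩ := isConj_iff.1 hc
    set x' := g⁻¹ * x * g with hx'
    set y' := g⁻¹ * y * g with hy'
    have hcomm : ∀ v, u * v = v * u → g⁻¹ * v * g ∈ cU φ := fun v hv => mem_cU.2 (by
      calc g⁻¹ * v * g * zU φ = g⁻¹ * (v * (g * zU φ * g⁻¹)) * g := by group
        _ = g⁻¹ * (g * zU φ * g⁻¹ * v) * g := by rw [hg, hv]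
        _ = zU φ * (g⁻¹ * v * g) := by group)
    rcases h.class_in_cU (hcomm x hux.eq) (hx.trans (isConj_iff.2 ⟨g⁻¹, by group⟩)) with e | e
    · apply hne
      have h1 : x' * y' = y' * x' := by
        rw [hx', e]
        exact (mem_cU.1 (hcomm y huy.eq)).symm
      calc x * y = g * (x' * y') * g⁻¹ := by rw [hx', hy']; group
        _ = g * (y' * x') * g⁻¹ := by rw [h1]
        _ = y * x := by rw [hx', hy']; group
    · refine h.tOrb_mul_z e (hxu.trans (isConj_iff.2 ⟨g⁻¹, ?_⟩))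
      rw [← hg]
      group
  · obtain ⟨g, hg⟩ := isConj_iff.1 hc
    set x' := g⁻¹ * x * g with hx'
    set y' := g⁻¹ * y * g with hy'
    have hcomm : ∀ v, u * v = v * u → IsConj (zU φ) v → ∃ i, g⁻¹ * v * g = sgU φ i := fun v hv hvc =>
      h.five_of_cA (by
        calc g⁻¹ * v * g * aU φ = g⁻¹ * (v * (g * aU φ * g⁻¹)) * g := by group
          _ = g⁻¹ * (g * aU φ * g⁻¹ * v) * g := by rw [hg, hv]
          _ = aU φ * (g⁻¹ * v * g) := by group) (hvc.trans (isConj_iff.2 ⟨g⁻¹, by group⟩))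
    have h1 : x' * y' = y' * x' := h.five_comm (hcomm x hux.eq hx) (hcomm y huy.eq hy)
    apply hne
    calc x * y = g * (x' * y') * g⁻¹ := by rw [hx', hy']; group
      _ = g * (y' * x') * g⁻¹ := by rw [h1]
      _ = y * x := by rw [hx', hy']; group

theorem pair_cent {x y u : G} (hx : IsConj (zU φ) x) (hy : IsConj (aU φ) y) (hu : pairInvol x y = u) :
    x * u = u * x ∧ y * u = u * y := by
  have hx2 := h.two_of_D hx
  have hy2 := order_two_of_conj h.a_two hy
  obtain ⟨-, hux, huy⟩ := Cfsg.Lib.InvolCalc.central_spec hx2 hy2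
    (even_of_not_conj hx2 hy2 fun e => h.not_conj ((hx.trans e).trans hy.symm))
  rw [← hu]
  exact ⟨hux.eq.symm, huy.eq.symm⟩

theorem not_both {y : G} (hz : IsConj (zU φ) y) (ha : IsConj (aU φ) y) : False :=
  h.not_conj (hz.trans ha.symm)

theorem outA_perm {y : G} (hy : y ∈ outA φ) : ∃ n : normalizer (eU φ : Set G), (n : G) = y ∧
    h.frame.permHom n ≠ 1 ∧ h.frame.permHom n * h.frame.permHom n = 1 ∧ Identify.pairP (h.frame.permHom n) := by
  obtain ⟨hca, h2, hE⟩ := hy
  have hyN : y ∈ normalizer (eU φ : Set G) := h.cA_le (mem_centralizer_singleton_iff.2 hca)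
  refine ⟨⟨y, hyN⟩, rfl, fun e => hE ?_, ?_, (h.mem_cA_iff_perm ⟨y, hyN⟩).1 (mem_centralizer_singleton_iff.2 hca)⟩
  · have hyC : y ∈ centralizer (eU φ : Set G) := (h.perm_one_iff ⟨y, hyN⟩).1 e
    obtain ⟨g, hg, m, hm2, -, hm⟩ := h.invol_into h.frame.range_le_norm hyN h2
    have hr : rP m := fun i => h.injP (by
      rw [map_mul, map_mul, ← hm]
      have h1 := mem_centralizer_iff.1 hyC _ ((mem_normalizer_iff.1 (inv_mem hg) _).1 (h.frame.sgU_mem i))
      show g * y * g⁻¹ * sgU φ i = sgU φ i * (g * y * g⁻¹)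
      calc g * y * g⁻¹ * sgU φ i = g * (y * (g⁻¹ * sgU φ i * g⁻¹⁻¹)) * g⁻¹ := by group
        _ = g * (g⁻¹ * sgU φ i * g⁻¹⁻¹ * y) * g⁻¹ := by rw [h1]
        _ = sgU φ i * (g * y * g⁻¹) := by group)
    exact ((mem_normalizer_iff.1 hg) y).2 (hm ▸ mem_map_of_mem φ (rP_invol m hr hm2))
  · rw [← map_mul, show (⟨y, hyN⟩ * ⟨y, hyN⟩ : normalizer (eU φ : Set G)) = 1 from Subtype.ext (mul_self_of_two h2),
      map_one]

theorem outA_class {y : G} (hy : y ∈ outA φ) : IsConj (aU φ) y :=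
  h.conj_a_of_not hy.2.1 fun hc => by
    obtain ⟨i, rfl⟩ := h.five_of_cA hy.1 hc
    exact hy.2.2 (h.frame.sgU_mem i)

/-- Conjugates by the normaliser of `E` of those centralising `z`. -/
theorem card_outA_point (k : Fin 3) :
    Set.ncard {y | y ∈ outA φ ∧ y * sgU φ (k.castLE (by norm_num)) = sgU φ (k.castLE (by norm_num)) * y} = 16 := by
  obtain ⟨σ, hσ, h0, hp⟩ := Identify.perm_cycle k
  obtain ⟨g, hg, hs⟩ := h.five_onto σ hσ
  have hga : g * aU φ = aU φ * g := mem_centralizer_singleton_iff.1 ((h.mem_cA_iff_perm ⟨g, hg⟩).2 (by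
    rwa [show h.frame.permHom ⟨g, hg⟩ = σ from
      Equiv.ext fun i => sgU_inj h.frame ((h.frame.perm_spec ⟨g, hg⟩ i).symm.trans (hs i))]))
  have hgz : g * zU φ * g⁻¹ = sgU φ (k.castLE (by norm_num)) := (hs 0).trans (by rw [h0])
  have hga' : g * aU φ * g⁻¹ = aU φ := fix_iff_comm.2 hga
  have himg : {y | y ∈ outA φ ∧ y * sgU φ (k.castLE (by norm_num)) = sgU φ (k.castLE (by norm_num)) * y} =
      MulAut.conj g '' {y | y ∈ outA φ ∧ y * zU φ = zU φ * y} := by
    have hequiv : ∀ y, (MulAut.conj g y ∈ outA φ ∧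
        MulAut.conj g y * sgU φ (k.castLE (by norm_num)) = sgU φ (k.castLE (by norm_num)) * MulAut.conj g y) ↔
        (y ∈ outA φ ∧ y * zU φ = zU φ * y) := fun y => by
      have e1 : ∀ w, (MulAut.conj g y * MulAut.conj g w = MulAut.conj g w * MulAut.conj g y ↔ y * w = w * y) :=
        fun w => by rw [← map_mul, ← map_mul, (MulAut.conj g).injective.eq_iff]
      have a1 : MulAut.conj g (aU φ) = aU φ := hga'
      have z1 : MulAut.conj g (zU φ) = sgU φ (k.castLE (by norm_num)) := hgz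
      have e2 := e1 (aU φ)
      have e3 := e1 (zU φ)
      rw [a1] at e2; rw [z1] at e3
      simp only [outA, Set.mem_ofPred_eq, MulEquiv.orderOf_eq, e2, e3]
      rw [show (MulAut.conj g y ∈ eU φ) ↔ y ∈ eU φ from ((mem_normalizer_iff.1 hg) y).symm]
    ext y
    constructor
    · intro hy
      refine ⟨(MulAut.conj g).symm y, (hequiv _).1 ?_, (MulAut.conj g).apply_symm_apply y⟩
      rw [MulEquiv.apply_symm_apply]
      exact hy
    · rintro ⟨w, hw, rfl⟩
      exact (hequiv w).2 hw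
  have hset : {y | y ∈ outA φ ∧ y * zU φ = zU φ * y} = (fun c : Fin 1024 => φ ⟨c⟩) ''
      ↑(Finset.univ.filter fun a : Fin 1024 => (⟨a⟩ : Mdl) * aR 0 = aR 0 * ⟨a⟩ ∧ (⟨a⟩ : Mdl) * ⟨a⟩ = 1 ∧
        ¬ eP ⟨a⟩) := by
    ext y
    simp only [Finset.coe_filter, Finset.mem_univ, true_and, Set.mem_image, Set.mem_ofPred_eq]
    constructor
    · rintro ⟨⟨hca, h2, hE⟩, hcz⟩
      obtain ⟨c, hc, m, hm2, hm1, hm⟩ := h.invol_into h.frame.range_le_cU (mem_cU.2 hcz) h2
      have hyq : y ∈ qU φ := by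
        by_contra hnq
        have hq : ¬ qP m := fun hq => hnq ((h.qU_conj hc).1 (hm ▸ mem_map_of_mem φ hq))
        have he := (invol_cases m hm2).resolve_right hq
        rcases eP_cases m he with rfl | ⟨i, rfl⟩ | ⟨i, j, hij, rfl⟩
        · exact hq qP_one
        · obtain ⟨l, rfl⟩ := h.five_of_cA hca ((h.five_conj i).trans (isConj_iff.2 ⟨c⁻¹, by rw [sgU, ← hm]; group⟩))
          exact hE (h.frame.sgU_mem l)
        · rcases eq_or_ne i 0 with rfl | hi
          · have hy' : y * zU φ = c⁻¹ * sgU φ j * c⁻¹⁻¹ := by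
              have hz : c⁻¹ * zU φ * c⁻¹⁻¹ = zU φ := fix_iff_comm.2 (mem_cU.1 (inv_mem hc))
              have e : y = zU φ * (c⁻¹ * sgU φ j * c⁻¹⁻¹) := by
                conv_rhs => arg 1; rw [← hz]
                rw [show c⁻¹ * zU φ * c⁻¹⁻¹ * (c⁻¹ * sgU φ j * c⁻¹⁻¹) = c⁻¹ * (zU φ * sgU φ j) * c⁻¹⁻¹ by group,
                  zU, sgU, ← map_mul, ← hm]
                group
              rw [hcz]
              conv_lhs => rw [e]
              rw [← mul_assoc, mul_self_of_two h.z_two, one_mul]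
            obtain ⟨l, hl⟩ := h.five_of_cA (y := y * zU φ) (by
                rw [mul_assoc, ← mem_cU.1 h.a_mem_cU, ← mul_assoc, hca, mul_assoc])
              ((h.five_conj j).trans (isConj_iff.2 ⟨c⁻¹, hy'.symm⟩))
            refine hE ?_
            rw [eq_mul_inv_of_mul_eq hl]
            exact mul_mem (h.frame.sgU_mem l) (inv_mem (h.frame.sgU_mem 0))
          · exact hq (pair_qP i j hi (by omega))
      obtain ⟨⟨code⟩, -, rfl⟩ := hyq
      refine ⟨code, ⟨h.injP ?_, h.injP ?_, fun he => hE (mem_map_of_mem φ he)⟩, rfl⟩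
      · rw [map_mul, map_mul]; exact hca
      · rw [map_mul, map_one]; exact mul_self_of_two h2
    · rintro ⟨a, ⟨h1, h2, h3⟩, rfl⟩
      refine ⟨⟨by rw [aU, ← map_mul, ← map_mul, h1], h.frame.order_two h2 fun e => h3 (e ▸ eP_one), ?_⟩,
        mem_cU.1 (h.frame.range_le_cU ⟨_, rfl⟩)⟩
      rintro ⟨b, hb, e⟩
      exact h3 (h.injP e ▸ hb)
  rw [himg, Set.ncard_image_of_injective _ (MulAut.conj g).injective, hset,
    Set.ncard_image_of_injective _ fun a b e => congrArg Mdl.code (h.injP e), Set.ncard_coe_finset]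
  exact aR_cent_count 0

theorem card_outA : (outA φ).ncard = 48 := by
  set T : Fin 3 → Set G := fun k =>
    {y | y ∈ outA φ ∧ y * sgU φ (k.castLE (by norm_num)) = sgU φ (k.castLE (by norm_num)) * y}
  have key : ∀ y ∈ outA φ, ∃ k, ∀ i, y ∈ T i ↔ i = k := fun y hy => by
    obtain ⟨n, rfl, h1, h2, h3⟩ := h.outA_perm hy
    obtain ⟨-, -, k, hk⟩ := Identify.perm_invol _ (h.perm_even n) h2 h1 h3
    exact ⟨k, fun i => ⟨fun hi => (hk i).1 ((h.fix_point n _).1 hi.2),
      fun e => ⟨hy, (h.fix_point n _).2 ((hk i).2 e)⟩⟩⟩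
  have hd : ∀ i j : Fin 3, i ≠ j → Disjoint (T i) (T j) := fun i j hij => Set.disjoint_left.2 fun y hi hj => by
    obtain ⟨k, hk⟩ := key y hi.1
    exact hij (((hk i).1 hi).trans ((hk j).1 hj).symm)
  have e : outA φ = T 0 ∪ T 1 ∪ T 2 := by
    refine Set.Subset.antisymm (fun y hy => ?_) (fun y hy => ?_)
    · obtain ⟨k, hk⟩ := key y hy
      have h1 := (hk k).2 rfl
      fin_cases k
      exacts [Or.inl (Or.inl h1), Or.inl (Or.inr h1), Or.inr h1]
    · rcases hy with (hy | hy) | hy <;> exact hy.1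
  rw [e, Set.ncard_union_eq (Set.disjoint_union_left.2 ⟨hd 0 2 (by decide), hd 1 2 (by decide)⟩),
    Set.ncard_union_eq (hd 0 1 (by decide)), h.card_outA_point 0, h.card_outA_point 1, h.card_outA_point 2]

theorem card_pairs_a : Nat.card (PairSet (zU φ) (aU φ) (aU φ)) = 99 := by
  have haE := h.a_mem
  have e : PairSet (zU φ) (aU φ) (aU φ) = (fun i : Fin 5 => (sgU φ i, sgU φ i * aU φ)) '' {i | i.val < 3} ∪
      ({sgU φ 3, sgU φ 4} : Set G) ×ˢ outA φ := by
    ext ⟨x, y⟩
    constructor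
    · rintro ⟨hx, hy, hu⟩
      obtain ⟨hxa, hya⟩ := h.pair_cent hx hy hu
      have hy2 := order_two_of_conj h.a_two hy
      obtain ⟨i, rfl⟩ := h.five_of_cA hxa hx
      have hne : sgU φ i ≠ y := fun e => h.not_both hx (e.symm ▸ hy)
      have hcommcase : sgU φ i * y = y * sgU φ i → y = sgU φ i * aU φ := fun hc => by
        rw [pairInvol_comm (h.two_of_D hx) hy2 hc hne] at hu
        have hxx := mul_self_of_two (h.two_of_D hx)
        calc y = sgU φ i * sgU φ i * y := by rw [hxx, one_mul]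
          _ = _ := by rw [mul_assoc]; exact congrArg (sgU φ i * ·) hu
      by_cases hyE : y ∈ eU φ
      · left
        have he := hcommcase (h.frame.eU_comm (h.frame.sgU_mem i) hyE)
        refine ⟨i, ?_, by rw [he]⟩
        by_contra hi
        have hi' : i = 3 ∨ i = 4 := by
          have : 3 ≤ i.val := Nat.le_of_not_lt hi
          rcases (show i.val = 3 ∨ i.val = 4 by omega) with e | e
          exacts [Or.inl (Fin.ext e), Or.inr (Fin.ext e)]
        rcases hi' with rfl | rfl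
        · exact h.not_both (he.symm ▸ ((h.five_conj 4).trans (by
            rw [sgU, sgU, aU, ← map_mul, five_products.1]))) hy
        · exact h.not_both (he.symm ▸ ((h.five_conj 3).trans (by
            rw [sgU, sgU, aU, ← map_mul, five_products.2]))) hy
      · right
        have hyo : y ∈ outA φ := ⟨hya, hy2, hyE⟩
        refine ⟨?_, hyo⟩
        obtain ⟨n, rfl, -, -, -⟩ := h.outA_perm hyo
        set j := h.frame.permHom n i
        have hij : j ≠ i := fun e => hyE (by
          rw [hcommcase ((h.fix_point n i).2 e).symm]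
          exact mul_mem (h.frame.sgU_mem i) haE)
        have hsq : sgU φ i * n * (sgU φ i * n) = φ (sgM i * sgM j) := by
          rw [map_mul]
          show _ = sgU φ i * sgU φ (h.frame.perm n i)
          rw [← h.frame.perm_spec n i, inv_self_of_two hy2]
          group
        rw [pairInvol_four (h.frame.order_two (eP_sq _ (eP_mul _ (sgM_eP i) _ (sgM_eP j)))
          (sgM_pair_ne i j i hij.symm).2) hsq] at hu
        rcases (Identify.five_disjoint i j hij.symm).2 (h.injP hu) with ⟨e, -⟩ | ⟨e, -⟩ <;> rw [e]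
        exacts [Or.inl rfl, Or.inr rfl]
    · rintro (⟨i, hi, e⟩ | ⟨hx, hy⟩)
      · obtain ⟨rfl, rfl⟩ := Prod.mk.inj e
        obtain ⟨j, k, hjk, hjk'⟩ := small_pairs i hi
        have he : sgU φ i * aU φ = φ (sgM j * sgM k) := by rw [sgU, aU, ← map_mul, hjk']
        have h2 : orderOf (sgU φ i * aU φ) = 2 := he ▸ h.frame.order_two
          (eP_sq _ (eP_mul _ (sgM_eP j) _ (sgM_eP k))) (sgM_pair_ne j k j hjk).2
        have hB : IsConj (aU φ) (sgU φ i * aU φ) := h.conj_a_of_not h2 (he ▸ h.pair_not_five_of_ne hjk)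
        refine ⟨h.five_conj i, hB, ?_⟩
        have hxx := mul_self_of_two (h.two_of_D (h.five_conj i))
        rw [pairInvol_comm (h.two_of_D (h.five_conj i)) h2
          (h.frame.eU_comm (h.frame.sgU_mem i) (mul_mem (h.frame.sgU_mem i) haE))
          (fun e' => h.not_both (h.five_conj i) (e'.symm ▸ hB)), ← mul_assoc, hxx, one_mul]
      · obtain ⟨n, rfl, h1, h2, h3⟩ := h.outA_perm hy
        obtain ⟨⟨e3, e4⟩, -⟩ := Identify.perm_invol _ (h.perm_even n) h2 h1 h3
        have key : ∀ i j : Fin 5, h.frame.permHom n i = j → sgM i * sgM j = aR 0 →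
            (sgU φ i, (n : G)) ∈ PairSet (zU φ) (aU φ) (aU φ) := fun i j e e' => by
          refine ⟨h.five_conj i, h.outA_class hy, pairInvol_four h.a_two ?_⟩
          show sgU φ i * n * (sgU φ i * n) = φ (aR 0)
          rw [← e', map_mul, ← sgU, ← sgU, ← e,
            show sgU φ (h.frame.permHom n i) = _ from (h.frame.perm_spec n i).symm, inv_self_of_two hy.2.1]
          group
        rcases hx with rfl | hx
        · exact key 3 4 e3 aR_pair.1.symm
        · rw [Set.mem_singleton_iff] at hx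
          subst hx
          exact key 4 3 e4 ((eP_comm _ (sgM_eP 4) _ (sgM_eP 3)).trans aR_pair.1.symm)
  rw [Nat.card_coe_set_eq, e, Set.ncard_union_eq, Set.ncard_prod, h.card_outA,
    Set.ncard_image_of_injective _ fun i j e => sgU_inj h.frame (congrArg Prod.fst e),
    Set.ncard_pair fun e => absurd (sgU_inj h.frame e) (by decide)]
  · rw [Set.ncard_eq_toFinset_card']
    decide +kernel
  · rw [Set.disjoint_left]
    rintro _ ⟨i, -, rfl⟩ ⟨-, hy⟩
    exact hy.2.2 (mul_mem (h.frame.sgU_mem i) haE)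

theorem z_mul_tOrb {w : G} (hw : w ∈ tOrb φ) : zU φ * w = w * zU φ := (mem_cU.1 (h.tOrb_sub hw).1).symm

theorem partners_eq : {y | IsConj (aU φ) y ∧ pairInvol (sgU φ 1) y = zU φ} =
    (zU φ * ·) '' insert (sgU φ 1) {y | y ∈ tOrb φ ∧ ¬ y * sgU φ 1 = sgU φ 1 * y} := by
  have ht : sgU φ 1 ∈ tOrb φ := h.sgU_tOrb (by decide)
  have ht2 := h.t_two
  have hz2 := h.z_two
  ext y
  constructor
  · rintro ⟨hy, hu⟩
    have hy2 := order_two_of_conj h.a_two hy
    have hyc : y ∈ cU φ := mem_cU.2 (h.pair_cent (h.five_conj 1) hy hu).2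
    have hty : sgU φ 1 ≠ y := fun e => h.not_both (h.five_conj 1) (e.symm ▸ hy)
    obtain ⟨g, hg, m, hm2, -, hm⟩ := h.invol_into h.frame.range_le_cU hyc hy2
    have hy' : y = g⁻¹ * φ m * g⁻¹⁻¹ := by rw [← hm]; group
    by_cases hq : qP m
    · exfalso
      obtain ⟨q, hq', rfl⟩ : y ∈ qU φ := (h.qU_conj hg).1 (hm ▸ mem_map_of_mem φ hq)
      have hq'' : qP q := hq'
      by_cases hc : sgU φ 1 * φ q = φ q * sgU φ 1
      · rw [pairInvol_comm ht2 hy2 hc hty] at hu
        have h1 : q = sgM 0 * sgM 1 := h.injP (by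
          rw [map_mul, ← zU, ← sgU, ← hu, mul_assoc, ← hc, ← mul_assoc, mul_self_of_two ht2, one_mul])
        exact absurd ((sgM_qP 1).2.1.1 (h1 ▸ hq'')) (by decide)
      · obtain ⟨k, hk⟩ := conj_sgM q
        have hk1 : φ q * sgU φ 1 * (φ q)⁻¹ = sgU φ (v4 k 1) := by
          rw [sgU, sgU, ← hk 1]; simp
        have hne : v4 k 1 ≠ 1 := fun e => hc (by
          rw [e] at hk1
          exact (fix_iff_comm.1 hk1).symm)
        have hsq : sgU φ 1 * φ q * (sgU φ 1 * φ q) = φ (sgM 1 * sgM (v4 k 1)) := by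
          rw [map_mul φ (sgM 1), ← sgU, ← sgU, ← hk1, inv_self_of_two hy2]
          group
        rw [pairInvol_four (h.frame.order_two (eP_sq _ (eP_mul _ (sgM_eP _) _ (sgM_eP _)))
          (sgM_pair_ne _ _ 0 hne.symm).2) hsq] at hu
        exact (Identify.five_disjoint _ _ hne.symm).1 (h.injP hu)
    · rcases eP_cases m ((invol_cases m hm2).resolve_right hq) with rfl | ⟨i, rfl⟩ | ⟨i, j, hij, rfl⟩
      · exact absurd qP_one hq
      · exact (h.not_both ((h.five_conj i).trans (isConj_iff.2 ⟨g⁻¹, hy'.symm⟩)) hy).elim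
      · rcases eq_or_ne i 0 with rfl | hi
        swap
        · exact absurd (pair_qP i j hi (by omega)) hq
        set w := g⁻¹ * sgU φ j * g⁻¹⁻¹ with hw
        have hwT : w ∈ tOrb φ := h.tOrb_conj (inv_mem hg) (h.sgU_tOrb hij.ne')
        have hyw : y = zU φ * w := by
          rw [hy', hw, ← show g⁻¹ * zU φ * g⁻¹⁻¹ = zU φ from fix_iff_comm.2 (mem_cU.1 (inv_mem hg)), map_mul,
            zU, sgU]
          group
        refine ⟨w, ?_, hyw.symm⟩
        by_cases hc : w * sgU φ 1 = sgU φ 1 * w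
        · left
          have hcy : sgU φ 1 * y = y * sgU φ 1 := by
            rw [hyw, ← mul_assoc, ← h.z_mul_tOrb ht, mul_assoc, ← hc]
            exact (mul_assoc _ _ _).symm
          rw [pairInvol_comm ht2 hy2 hcy hty, hyw, ← mul_assoc, ← h.z_mul_tOrb ht, mul_assoc, mul_eq_left] at hu
          rw [← inv_eq_of_mul_eq_one_right hu, inv_self_of_two ht2]
        · exact Or.inr ⟨hwT, hc⟩
  · rintro ⟨w, hw, rfl⟩
    show IsConj (aU φ) (zU φ * w) ∧ pairInvol (sgU φ 1) (zU φ * w) = zU φ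
    have hwT : w ∈ tOrb φ := hw.elim (fun e => e ▸ ht) fun hw => hw.1
    have hzw := h.z_mul_tOrb hwT
    have hw2 := h.two_of_D (h.tOrb_sub hwT).2.1
    have hy2 : orderOf (zU φ * w) = 2 := orderOf_eq_prime
      (by rw [Commute.mul_pow hzw, pow_two, pow_two, mul_self_of_two hz2, mul_self_of_two hw2, one_mul])
      fun e => (h.tOrb_sub hwT).2.2 (by rw [← inv_eq_of_mul_eq_one_right e, inv_self_of_two hz2])
    have hB : IsConj (aU φ) (zU φ * w) := h.conj_a_of_not hy2 (hzw ▸ h.tOrb_mul_z hwT)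
    refine ⟨hB, ?_⟩
    rcases hw with rfl | ⟨-, hnc⟩
    · rw [pairInvol_comm ht2 hy2 (by rw [← mul_assoc, ← hzw])
        (fun e => h.not_both (h.five_conj 1) (e.symm ▸ hB)), ← mul_assoc, ← hzw, mul_assoc, mul_self_of_two ht2,
        mul_one]
    · set r := sgU φ 1 * w with hr
      have ho : Odd (orderOf r) :=
        h.odd_of_noncomm (h.five_conj 1) (h.tOrb_sub hwT).2.1 fun e => hnc e.symm
      have hzr : Commute (zU φ) r := Commute.mul_right (h.z_mul_tOrb ht) hzw
      rw [pairInvol, show sgU φ 1 * (zU φ * w) = zU φ * r by rw [hr, ← mul_assoc, ← h.z_mul_tOrb ht, mul_assoc],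
        hzr.orderOf_mul_eq_mul_orderOf_of_coprime (by rw [hz2]; exact Nat.coprime_two_left.2 ho), hz2,
        Nat.mul_div_cancel_left _ (by norm_num), hzr.mul_pow, pow_orderOf_eq_one, mul_one]
      obtain ⟨k, hk⟩ := ho
      rw [hk, pow_succ, pow_mul, pow_two, mul_self_of_two hz2, one_pow, one_mul]

theorem card_pairs_z : Nat.card (PairSet (zU φ) (aU φ) (zU φ)) = 36 * 33 := by
  set N := {y | IsConj (aU φ) y ∧ pairInvol (sgU φ 1) y = zU φ}
  have hN : Nat.card N = 33 := by
    rw [Nat.card_coe_set_eq, show N = _ from h.partners_eq, Set.ncard_image_of_injective _ (mul_right_injective _),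
      Set.ncard_insert_of_notMem (fun hm => hm.2 rfl), h.card_tOrb_noncomm]
  have hx : ∀ p ∈ PairSet (zU φ) (aU φ) (zU φ), p.1 ∈ tOrb φ := by
    rintro ⟨x, y⟩ ⟨hx, hy, hu⟩
    obtain ⟨hxc, hyc⟩ := h.pair_cent hx hy hu
    refine (h.class_in_cU (mem_cU.2 hxc) hx).resolve_left fun e => ?_
    simp only at e hx hy hu hyc
    subst e
    have hy2 := order_two_of_conj h.a_two hy
    rw [pairInvol_comm h.z_two hy2 hyc.symm (fun e => h.not_both hx (e.symm ▸ hy)), mul_eq_left] at hu
    rw [hu, orderOf_one] at hy2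
    omega
  choose c hc hct using fun x : tOrb φ => x.2
  have hfix : ∀ x : tOrb φ, c x * zU φ * (c x)⁻¹ = zU φ := fun x => fix_iff_comm.2 (mem_cU.1 (hc x))
  have e : PairSet (zU φ) (aU φ) (zU φ) ≃ tOrb φ × N :=
    { toFun := fun p => (⟨p.1.1, hx _ p.2⟩,
        ⟨(c ⟨p.1.1, hx _ p.2⟩)⁻¹ * p.1.2 * c ⟨p.1.1, hx _ p.2⟩, by
          set x : tOrb φ := ⟨p.1.1, hx _ p.2⟩
          refine ⟨p.2.2.1.trans (isConj_iff.2 ⟨(c x)⁻¹, by group⟩), ?_⟩
          have e1 : pairInvol ((c x)⁻¹ * p.1.1 * (c x)⁻¹⁻¹) ((c x)⁻¹ * p.1.2 * (c x)⁻¹⁻¹) =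
              (c x)⁻¹ * pairInvol p.1.1 p.1.2 * (c x)⁻¹⁻¹ := pairInvol_conj _ _ _
          have e2 : (c x)⁻¹ * p.1.1 * (c x)⁻¹⁻¹ = sgU φ 1 := by
            show (c x)⁻¹ * (x : G) * (c x)⁻¹⁻¹ = _
            conv_lhs => arg 1; arg 2; rw [← hct x]
            group
          rw [e2, p.2.2.2, inv_inv] at e1
          exact e1.trans (by conv_lhs => arg 1; arg 2; rw [← hfix x]
                             group)⟩)
      invFun := fun q => ⟨((q.1 : G), c q.1 * q.2 * (c q.1)⁻¹),
        (h.tOrb_sub q.1.2).2.1, q.2.2.1.trans (isConj_iff.2 ⟨c q.1, rfl⟩), by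
          show pairInvol (q.1 : G) (c q.1 * q.2 * (c q.1)⁻¹) = zU φ
          rw [← hct q.1, pairInvol_conj, q.2.2.2, hfix]⟩
      left_inv := fun p => Subtype.ext (Prod.ext rfl (by
        show c _ * ((c _)⁻¹ * p.1.2 * c _) * (c _)⁻¹ = p.1.2
        group))
      right_inv := fun q => Prod.ext rfl (Subtype.ext (by
        show (c q.1)⁻¹ * (c q.1 * q.2 * (c q.1)⁻¹) * c q.1 = q.2
        group)) }
  rw [Nat.card_congr e, Nat.card_prod, h.card_tOrb, hN]

theorem card_group : Nat.card G = Nat.card (centralizer (eU φ : Set G)) * 17820 := by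
  have e := two_class_formula h.z_two h.a_two h.not_conj h.classes
  rw [h.card_pairs_z, h.card_pairs_a, h.card_cA] at e
  rw [e, show Nat.card (centralizer ({zU φ} : Set G)) = _ from h.card_cU]
  ring

theorem card_D : Nat.card {x // IsConj (zU φ) x} = 165 := by
  have e := card_class_mul (zU φ)
  rw [show Nat.card (centralizer ({zU φ} : Set G)) = _ from h.card_cU, h.card_group] at e
  refine Nat.eq_of_mul_eq_mul_right (Nat.mul_pos Nat.card_pos (by norm_num : 0 < 108)) (e.trans ?_)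
  ring

end Final

end Cfsg.Lib.UFiveType
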